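import Cfsg.Agent.ClassicalMax.SU3.Singer.Main
import Cfsg.Agent.ClassicalMax.SU3.Base
import Cfsg.Agent.Classical.UnitaryGroup

/-!
The normaliser of an adjoint-closed cubic subfield of the matrix algebra is maximal in the special unitary group.
-/

set_option autoImplicit false
set_option linter.unusedSectionVars false
set_option linter.style.haveILetI false

namespace Cfsg.Agent.ClassicalMax.SU3.Singer

open Module Cfsg.Agent.Classical Cfsg.Agent.ClassicalMax Cfsg.Agent.ClassicalMax.SL3.Singer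

variable {F : Type*} [Field F] [Fintype F] {q : ℕ} {σ : F →+* F}

theorem card_suG3 (hσ : Herm.IsInvol σ) (hσq : ∀ x, σ x = x ^ q) (hFq : Nat.card (Herm.fixField σ) = q) :
    Nat.card (Herm.suG (hermB 3 σ)) = q ^ 3 * (q ^ 3 + 1) * (q ^ 2 - 1) := by
  rw [← Nat.card_congr (suEquiv 3 hσq).toEquiv]
  have h1 := card_SU_mul_eq_GU (n := 3) hσ hσq hFq (by norm_num)
  rw [card_GU_formula hσ hσq hFq] at h1
  norm_num [Finset.prod_range_succ] at h1
  exact Nat.eq_of_mul_eq_mul_left q.succ_pos (by rw [Nat.succ_eq_add_one, h1]; ring)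

theorem isMaximal_aux {L : Type*} [Field L] [Algebra F L] (h3 : finrank F L = 3)
    (j : L →ₐ[F] Matrix (Fin 3) (Fin 3) F) (hF : Fintype.card F = q ^ 2) (hq : 4 ≤ q) (hq5 : q ≠ 5)
    (hadj : Cfsg.Geo.IsAdjointClosedFor (Cfsg.hermForm 3 F q) j.range) :
    Cfsg.Geo.IsMaximalIn (Cfsg.GU 3 F q ⊓ Cfsg.Geo.specialLinear (Fin 3) F)
      (Cfsg.Geo.subalgebraNormalizer j.range ⊓ (Cfsg.GU 3 F q ⊓ Cfsg.Geo.specialLinear (Fin 3) F)) := by
  classical
  obtain ⟨σ, hσq, hσ, hFq, -⟩ := exists_powHom hF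
  have hB0 := hermB_isHerm (n := 3) hσ
  haveI : FiniteDimensional F L := Module.finite_of_finrank_pos (by omega)
  haveI : Finite L := Module.finite_of_finite F
  haveI : Finite (L ≃ₗ[F] L) := Finite.of_injective _ DFunLike.coe_injective
  have hjinj : Function.Injective j := (j : L →+* Matrix (Fin 3) (Fin 3) F).injective
  let v₀ : Fin 3 → F := Pi.single 0 1
  have hv₀ : v₀ ≠ 0 := fun h => by simpa [v₀] using congrFun h 0
  let e₀ : L →ₗ[F] (Fin 3 → F) :=
    { toFun := fun k => (j k).mulVec v₀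
      map_add' := fun a b => by rw [map_add, Matrix.add_mulVec]
      map_smul' := fun c a => by rw [map_smul, Matrix.smul_mulVec, RingHom.id_apply] }
  have hinj : Function.Injective e₀ := (injective_iff_map_eq_zero e₀).2 fun k hk => by
    by_contra h0
    refine hv₀ ?_
    have h : (j k⁻¹).mulVec ((j k).mulVec v₀) = 0 := by
      rw [show (j k).mulVec v₀ = e₀ k from rfl, hk, Matrix.mulVec_zero]
    rwa [Matrix.mulVec_mulVec, ← map_mul, inv_mul_cancel₀ h0, map_one, Matrix.one_mulVec] at h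
  let e : L ≃ₗ[F] (Fin 3 → F) := LinearEquiv.ofInjectiveOfFinrankEq e₀ hinj (by rw [h3, finrank_fin_fun])
  have he : ∀ x z : L, (j x).mulVec (e z) = e (x * z) := fun x z => by
    show (j x).mulVec ((j z).mulVec v₀) = (j (x * z)).mulVec v₀
    rw [Matrix.mulVec_mulVec, map_mul]
  -- the form on the field
  let B : L →ₛₗ[σ] L →ₗ[F] F := LinearMap.mk₂'ₛₗ σ (RingHom.id F) (fun x y => hermB 3 σ (e x) (e y))
    (fun a b y => by rw [map_add, map_add, LinearMap.add_apply])
    (fun c a y => by rw [map_smul, map_smulₛₗ, LinearMap.smul_apply])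
    (fun a y z => by rw [map_add, map_add])
    (fun c a y => by rw [map_smul, map_smul, RingHom.id_apply])
  have hBe : ∀ x y, B x y = hermB 3 σ (e x) (e y) := fun _ _ => rfl
  have hB : Herm.IsHerm B :=
    { toIsInvol := hσ
      symm := fun x y => by rw [hBe, hBe, hB0.symm]
      nondeg := fun x hx => e.map_eq_zero_iff.1 (hB0.nondeg _ fun y => by
        have := hx (e.symm y)
        rwa [hBe, e.apply_symm_apply] at this) }
  -- the involution of the field
  have hex : ∀ k : L, ∃ k' : L, ∀ x z, B (k' * x) z = B x (k * z) := fun k => by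
    obtain ⟨M, hM, hMe⟩ := hadj (j k) ⟨k, rfl⟩
    obtain ⟨k', rfl⟩ := (AlgHom.mem_range _).1 hM
    refine ⟨k', fun x z => ?_⟩
    have := hMe (e z) (e x)
    rw [hermForm_eq hσq, hermForm_eq hσq, he, he] at this
    exact this.symm
  choose t ht using hex
  have huniq : ∀ {k : L} (k' : L), (∀ x z, B (k' * x) z = B x (k * z)) → t k = k' := fun {k} k' h => by
    have h1 : t k * 1 = k' * 1 := sub_eq_zero.1 (hB.nondeg _ fun z => by
      rw [map_sub, LinearMap.sub_apply, ht, h, sub_self])
    rwa [mul_one, mul_one] at h1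
  let τ : L →+* L :=
    { toFun := t
      map_one' := huniq 1 fun x z => by simp
      map_mul' := fun k k' => huniq _ fun x z => by rw [mul_comm (t k), mul_assoc, mul_assoc, ht, ht]
      map_zero' := huniq 0 fun x z => by simp
      map_add' := fun k k' => huniq _ fun x z => by
        rw [add_mul, map_add, LinearMap.add_apply, ht, ht, ← map_add, add_mul] }
  have hτ : ∀ (k : L) x z, B (τ k * x) z = B x (k * z) := ht
  have hτ2 : ∀ k, τ (τ k) = k := fun k => huniq _ fun x z => by rw [← hB.symm z (k * x), ← hτ, hB.symm]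
  have hext : ∀ s, τ (algebraMap F L s) = algebraMap F L (σ s) := fun s => huniq _ fun x z => by
    rw [← Algebra.smul_def, ← Algebra.smul_def, map_smulₛₗ, LinearMap.smul_apply, map_smul, hσ.invol]
  have hτinv : Herm.IsInvol τ := ⟨fun h => by
    obtain ⟨s, hs⟩ := Herm.exists_moved hσ
    refine hs ((algebraMap F L).injective ?_)
    rw [← hext, h, RingHom.id_apply], hτ2⟩
  have hctx : Ctx B τ := ⟨hB, hτinv, hext, hτ, h3⟩
  -- transport of maps
  let Φ : ((Fin 3 → F) ≃ₗ[F] (Fin 3 → F)) ≃* (L ≃ₗ[F] L) :=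
    { toFun := fun g => e.trans (g.trans e.symm)
      invFun := fun g => e.symm.trans (g.trans e)
      left_inv := fun g => LinearEquiv.ext fun x => by
        simp only [LinearEquiv.trans_apply, LinearEquiv.apply_symm_apply]
      right_inv := fun g => LinearEquiv.ext fun x => by
        simp only [LinearEquiv.trans_apply, LinearEquiv.symm_apply_apply]
      map_mul' := fun a b => LinearEquiv.ext fun x => by
        simp only [LinearEquiv.mul_apply, LinearEquiv.trans_apply, LinearEquiv.apply_symm_apply] }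
  have hΦe : ∀ g z, e (Φ g z) = g (e z) := fun g z => e.apply_symm_apply _
  have hdet : ∀ g, LinearEquiv.det (Φ g) = LinearEquiv.det g := fun g => Units.ext (by
    rw [LinearEquiv.coe_det, LinearEquiv.coe_det,
      show (Φ g).toLinearMap = (e.symm.toLinearMap ∘ₗ g.toLinearMap ∘ₗ e.symm.symm.toLinearMap) from
        LinearMap.ext fun z => rfl, LinearMap.det_conj])
  have hsu : ∀ g, Φ g ∈ Herm.suG B ↔ g ∈ Herm.suG (hermB 3 σ) := fun g => by
    rw [Herm.mem_suG, Herm.mem_suG, hdet]
    refine and_congr ⟨fun h x y => ?_, fun h x y => by rw [hBe, hBe, hΦe, hΦe, h]⟩ Iff.rfl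
    have := h (e.symm x) (e.symm y)
    rwa [hBe, hBe, hΦe, hΦe, e.apply_symm_apply, e.apply_symm_apply] at this
  have hext' : ∀ A C : Matrix (Fin 3) (Fin 3) F, (∀ z, A.mulVec (e z) = C.mulVec (e z)) → A = C := fun A C h =>
    Matrix.toLin'.injective (LinearMap.ext fun x => by
      have := h (e.symm x); rwa [e.apply_symm_apply] at this)
  have hnor : ∀ g, g ∈ Cfsg.Geo.subalgebraNormalizer j.range ↔ Φ (glEquiv (Fin 3) F g) ∈ nor F L := fun g => by
    have hGe : ∀ z, e (Φ (glEquiv (Fin 3) F g) z) = (g : Matrix (Fin 3) (Fin 3) F).mulVec (e z) := fun z => by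
      rw [hΦe, glEquiv_apply]
    have hiff : ∀ x y : L, ((g : Matrix (Fin 3) (Fin 3) F) * j x *
        ((g⁻¹ : Matrix.GeneralLinearGroup (Fin 3) F) : Matrix (Fin 3) (Fin 3) F) = j y ↔
          ∀ z, Φ (glEquiv (Fin 3) F g) (x * z) = y * Φ (glEquiv (Fin 3) F g) z) := by
      intro x y
      rw [Units.mul_inv_eq_iff_eq_mul]
      constructor
      · intro h z
        apply e.injective
        rw [hGe, ← he, Matrix.mulVec_mulVec, h, ← Matrix.mulVec_mulVec, ← hGe, he]
      · intro h
        refine hext' _ _ fun z => ?_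
        rw [← Matrix.mulVec_mulVec, ← Matrix.mulVec_mulVec, he, ← hGe, h, ← he, hGe]
    constructor
    · intro hg x
      obtain ⟨y, hy⟩ := (hg (j x)).1 ⟨x, rfl⟩
      exact ⟨y, (hiff x y).1 hy.symm⟩
    · intro hg k
      choose f hf using hg
      have hf' : ∀ x, (g : Matrix (Fin 3) (Fin 3) F) * j x *
          ((g⁻¹ : Matrix.GeneralLinearGroup (Fin 3) F) : Matrix (Fin 3) (Fin 3) F) = j (f x) := fun x =>
        (hiff x (f x)).2 (hf x)
      constructor
      · rintro ⟨x, rfl⟩
        exact ⟨f x, (hf' x).symm⟩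
      · rintro ⟨y, hy⟩
        have hfinj : Function.Injective f := fun a b h => hjinj
          ((Units.mul_right_inj g).1 ((Units.mul_left_inj g⁻¹).1 (by rw [hf' a, hf' b, h])))
        obtain ⟨x, rfl⟩ := Finite.injective_iff_surjective.1 hfinj y
        exact ⟨x, (Units.mul_right_inj g).1 ((Units.mul_left_inj g⁻¹).1 ((hf' x).trans hy))⟩
  -- orders
  have hcardB : Nat.card (Herm.suG B) = q ^ 3 * (q ^ 3 + 1) * (q ^ 2 - 1) := by
    rw [← card_suG3 hσ hσq hFq]
    exact Nat.card_congr
      { toFun := fun g => ⟨Φ.symm g.1, (hsu _).1 (by rw [Φ.apply_symm_apply]; exact g.2)⟩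
        invFun := fun g => ⟨Φ g.1, (hsu _).2 g.2⟩
        left_inv := fun g => Subtype.ext (Φ.apply_symm_apply _)
        right_inv := fun g => Subtype.ext (Φ.symm_apply_apply _) }
  have hiso : Nat.card {x : L // B x x = 0} = (q ^ 3 + 1) * (q ^ 2 - 1) + 1 := by
    rw [Nat.card_congr ((e.toEquiv.subtypeEquiv fun x => by rw [hBe]; rfl) :
      {x : L // B x x = 0} ≃ {v : Fin 3 → F // hermB 3 σ v v = 0}), card_herm_isotropic hσ hFq]
    norm_num [Nat.not_even_iff_odd.2 (show Odd 3 by decide)]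
  refine isMaximalIn_su3 hσ hσq (exists_fixed hF hσq (by omega)) _ ?_ ?_
  · by_contra hcon
    push Not at hcon
    have hall : Herm.suG B ≤ norU B := by
      have h1 := suG_le hB (M := norU B) (by omega) (exists_fixed hF hσq (by omega)) fun v hv => by
        refine ⟨hv, fun hv' c hc => ⟨?_, Herm.tvU_mem hB hv' hc⟩⟩
        have hv'' : hermB 3 σ (e v) (e v) = 0 := by rw [← hBe]; exact hv
        have h2 := (hnor _).1 (hcon (e v) hv'' c hc)
        rw [MulEquiv.apply_symm_apply] at h2
        suffices hh : Herm.tvU hv' c = Φ (Herm.tvU hv'' c) by rw [hh]; exact h2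
        refine LinearEquiv.ext fun z => e.injective ?_
        rw [hΦe, Herm.tvU_apply, Herm.tvU_apply, map_add, map_smul, hBe]
      exact h1
    have := Subgroup.card_le_of_le hall
    rw [hcardB, card_norU hctx] at this
    have hc := card_circ hctx hF
    have h2 : q ^ 2 + 1 ≤ q ^ 3 + 1 := Nat.add_le_add_right (Nat.pow_le_pow_right (by omega) (by norm_num)) 1
    have h3 : 4 ≤ q ^ 2 := Nat.pow_le_pow_left (show 2 ≤ q by omega) 2
    have h4 : (q ^ 3 + 1) * 4 ≤ q ^ 3 * (q ^ 3 + 1) * (q ^ 2 - 1) := by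
      rw [mul_assoc, mul_left_comm]
      exact Nat.mul_le_mul le_rfl (le_trans (show 4 ≤ 8 * 3 by norm_num)
        (Nat.mul_le_mul (show 8 ≤ q ^ 3 from Nat.pow_le_pow_left (show 2 ≤ q by omega) 3) (by omega)))
    omega
  · intro M hM hHM hg
    have hM' : norU B ≤ M.map Φ.toMonoidHom := fun x hx => by
      obtain ⟨g, rfl⟩ := Φ.surjective x
      refine Subgroup.mem_map_of_mem _ (hHM g ((hsu g).1 hx.2).1 ?_ ?_)
      · rw [← LinearEquiv.coe_det, ((hsu g).1 hx.2).2, Units.val_one]
      · rw [hnor, MulEquiv.apply_symm_apply]; exact hx.1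
    have hle : M.map Φ.toMonoidHom ≤ Herm.suG B := by
      rintro _ ⟨g, hgM, rfl⟩
      exact (hsu g).2 (hM hgM)
    rcases over_norU hctx hF hq hq5 hcardB hiso hM' hle with h | h
    · obtain ⟨g, hgM, hgK⟩ := hg
      refine absurd ((hnor _).2 ?_) hgK
      rw [MulEquiv.apply_symm_apply]
      exact (h ▸ Subgroup.mem_map_of_mem _ hgM : Φ g ∈ norU B).1
    · intro v hv
      have hv' : B (e.symm v) (e.symm v) = 0 := by rw [hBe, e.apply_symm_apply]; exact hv
      refine ⟨hv, fun hv1 c hc => ?_⟩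
      obtain ⟨g, hgM, hg⟩ := (h _ hv').2 hv' c hc
      suffices Herm.tvU hv1 c = g by rw [this]; exact hgM
      refine LinearEquiv.ext fun x => ?_
      have h1 := hΦe g (e.symm x)
      rw [show Φ g = Herm.tvU hv' c from hg, Herm.tvU_apply, map_add, map_smul, hBe, e.apply_symm_apply,
        e.apply_symm_apply] at h1
      rw [Herm.tvU_apply, h1]

/-- the normaliser of an adjoint-closed cubic field of matrices is maximal in the special unitary group -/
theorem isMaximal (hF : Fintype.card F = q ^ 2) (hq : 3 ≤ q) (hq3 : q ≠ 3) (hq5 : q ≠ 5)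
    (K : Subalgebra F (Matrix (Fin 3) (Fin 3) F)) (hK : Cfsg.Geo.IsFieldSubalgebra 3 K)
    (hadj : Cfsg.Geo.IsAdjointClosedFor (Cfsg.hermForm 3 F q) K) :
    Cfsg.Geo.IsMaximalIn (Cfsg.GU 3 F q ⊓ Cfsg.Geo.specialLinear (Fin 3) F)
      (Cfsg.Geo.subalgebraNormalizer K ⊓ (Cfsg.GU 3 F q ⊓ Cfsg.Geo.specialLinear (Fin 3) F)) := by
  have hKfield : IsField K :=
    { exists_pair_ne := ⟨0, 1, fun h => zero_ne_one (α := Matrix (Fin 3) (Fin 3) F) (congrArg Subtype.val h)⟩
      mul_comm := fun x y => Subtype.ext (hK.comm _ x.2 _ y.2)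
      mul_inv_cancel := fun {a} ha => by
        obtain ⟨y, hy, h⟩ := hK.inv _ a.2 (fun e => ha (Subtype.ext e))
        exact ⟨⟨y, hy⟩, Subtype.ext h⟩ }
  letI : Field K := hKfield.toField
  have := isMaximal_aux (L := K) hK.finrank_eq K.val hF (by omega) hq5 (by rw [Subalgebra.range_val]; exact hadj)
  rwa [Subalgebra.range_val] at this

end Cfsg.Agent.ClassicalMax.SU3.Singer
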