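import Mathlib

/-!
The index of the normaliser of a cubic field in an overgroup inside the special unitary group.
-/

set_option autoImplicit false

namespace Cfsg.Agent.ClassicalMax.SU3.Singer

/-- the equation of the case of a trivial centre -/
def bad₁ (q j m : ℕ) : Bool :=
  4 ≤ q && 0 < j && 0 < m &&
    j * m * (q * q) + j * m + m == q * q + (j * m + 4 * j + 3) * q + 5 * j + 3 * (j * j) + 2

/-- the equation of the case of a centre of order three -/
def bad₃ (q j m : ℕ) : Bool :=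
  q % 3 == 2 && 8 ≤ q && 0 < j && 0 < m &&
    j * m * (q * q) + j * m + 3 * m == 9 * (q * q) + (j * m + 12 * j + 27) * q + 3 * (j * j) + 15 * j + 18

theorem check_one : ∀ q < 27, ∀ j < 27, ∀ m < 5,
    (!bad₁ q j m || (q == 4 && j == 3) || q == 5 || q == 6) = true := by
  decide +kernel

theorem check_three : ∀ q < 29, ∀ j < 62, ∀ m < 17,
    (!bad₃ q j m || (q == 8 && (j == 5 || j == 53)) || q == 14) = true := by
  decide +kernel

theorem check_three_large : ∀ t < 231, ∀ j < 42, ∀ m < 17, (!bad₃ (29 + t) j m || 29 + t == 35) = true := by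
  decide +kernel

theorem core_one {q i j : ℤ} (hq : 4 ≤ q) (h5 : q ≠ 5) (h6 : q ≠ 6) (hi : 1 ≤ i) (hj : 1 ≤ j)
    (h : 3 * (i + j) + 3 * (i * j) * (q ^ 2 - q + 1) = (q + 1) * (q + 2) * (q ^ 2 - q + 1) - (4 * q + 5)) :
    q = 4 ∧ j = 3 := by
  wlog hle : j ≤ i generalizing i j
  · obtain ⟨e1, e2⟩ := this hj hi (by linarith) (by omega)
    subst e1 e2
    norm_num at h
    exact ⟨rfl, by linarith⟩
  obtain ⟨m, hm⟩ : ∃ m : ℤ, m = (q + 1) * (q + 2) - 3 * (i * j) := ⟨_, rfl⟩
  have hsum : 3 * (i + j) = m * (q ^ 2 - q + 1) - (4 * q + 5) := by rw [hm]; linarith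
  have hc : 0 < q ^ 2 - q + 1 := by nlinarith
  have hm1 : 1 ≤ m := by
    by_contra hm0
    have : m * (q ^ 2 - q + 1) ≤ 0 := mul_nonpos_of_nonpos_of_nonneg (by omega) hc.le
    linarith
  have hij : i + j ≤ i * j + 1 := by nlinarith
  have hm4 : m ≤ 4 := by
    by_contra hm5
    nlinarith [mul_le_mul_of_nonneg_right (show 5 ≤ m by omega) hc.le]
  have key : (j * m - 1) * q ^ 2 - (j * m + 4 * j + 3) * q + (j * m + m - 5 * j - 3 * j ^ 2 - 2) = 0 := by
    linear_combination hm - j * hsum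
  have hj2 : j ≤ q := by
    by_contra hgt
    have hjq : q + 1 ≤ j := by omega
    nlinarith [mul_le_mul (show q + 1 ≤ i by omega) hjq (by omega) (by omega)]
  have hk2 : 2 ≤ j * m := by
    by_contra hk
    have hk1 : j * m = 1 := by nlinarith [mul_pos (show (0:ℤ) < j by omega) (show (0:ℤ) < m by omega)]
    rw [hk1] at key
    have : j = 1 := by nlinarith
    subst this
    nlinarith
  have hq27 : q < 27 := by
    by_contra hge
    have h1 : 3 * j ^ 2 ≤ 3 * j * q := by nlinarith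
    have hjm : j ≤ j * m := le_mul_of_one_le_right (by omega) hm1
    have h2 : (j * m - 1) * q ^ 2 ≤ (j * m + 7 * j + 3) * q + 5 * j + 2 := by nlinarith
    nlinarith [mul_le_mul_of_nonneg_right (mul_le_mul_of_nonneg_left (show 27 ≤ q by omega)
      (show (0:ℤ) ≤ j * m - 1 by omega)) (show (0:ℤ) ≤ q by omega)]
  lift j to ℕ using (by omega) with j'
  lift m to ℕ using (by omega) with m'
  lift q to ℕ using (by omega) with q'
  have keyN : j' * m' * (q' * q') + j' * m' + m' = q' * q' + (j' * m' + 4 * j' + 3) * q' + 5 * j' + 3 * (j' * j') + 2 := by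
    zify; linear_combination key
  have := check_one q' (by omega) j' (by omega) m' (by omega)
  have hb : bad₁ q' j' m' = true := by
    simp only [bad₁, Bool.and_eq_true, decide_eq_true_eq, beq_iff_eq]
    exact ⟨⟨⟨by omega, by omega⟩, by omega⟩, keyN⟩
  simp only [hb, Bool.not_true, Bool.false_or, Bool.or_eq_true, Bool.and_eq_true, beq_iff_eq] at this
  omega

theorem core_three {q i j cb : ℤ} (hq : 8 ≤ q) (hmod : q % 3 = 2) (h14 : q ≠ 14) (h35 : q ≠ 35)
    (hcb : 3 * cb = q ^ 2 - q + 1) (hi : 1 ≤ i) (hj : 1 ≤ j)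
    (h : i + j + i * j * cb = 3 * ((q + 1) * (q + 2)) * cb - (4 * q + 5)) :
    q = 8 ∧ (j = 5 ∨ j = 53) := by
  wlog hle : j ≤ i generalizing i j
  · obtain ⟨e1, e2⟩ := this hj hi (by linarith) (by omega)
    subst e1
    norm_num at hcb h
    have : cb = 19 := by omega
    subst this
    rcases e2 with e | e <;> subst e <;> exact ⟨rfl, by omega⟩
  obtain ⟨m, hm⟩ : ∃ m : ℤ, m = 3 * ((q + 1) * (q + 2)) - i * j := ⟨_, rfl⟩
  have hsum : i + j = m * cb - (4 * q + 5) := by rw [hm]; linarith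
  have hc : 0 < cb := by nlinarith
  have hm1 : 1 ≤ m := by
    by_contra hm0
    have : m * cb ≤ 0 := mul_nonpos_of_nonpos_of_nonneg (by omega) hc.le
    linarith
  have hij : i + j ≤ i * j + 1 := by nlinarith
  have hm16 : m ≤ 16 := by
    by_contra hm17
    nlinarith [mul_le_mul_of_nonneg_right (show 17 ≤ m by omega) hc.le]
  have key : (j * m - 9) * q ^ 2 - (j * m + 12 * j + 27) * q + (j * m + 3 * m - 3 * j ^ 2 - 15 * j - 18) = 0 := by
    linear_combination 3 * hm - 3 * j * hsum - j * m * hcb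
  have hj2 : j ≤ 2 * q + 3 := by
    by_contra hgt
    nlinarith [mul_le_mul (show 2 * q + 4 ≤ i by omega) (show 2 * q + 4 ≤ j by omega) (by omega) (by omega)]
  have hk10 : 10 ≤ j * m := by
    by_contra hk
    have h1 : (j * m - 9) * q ^ 2 ≤ 0 := mul_nonpos_of_nonpos_of_nonneg (by omega) (sq_nonneg q)
    nlinarith
  have hjm : j ≤ j * m := le_mul_of_one_le_right (by omega) hm1
  have hlin : (j * m - 9) * q ≤ 22 * (j * m) + 30 := by
    have h1 : (j * m - 9) * q * q ≤ (22 * (j * m) + 30) * q := by nlinarith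
    exact le_of_mul_le_mul_right h1 (by omega)
  have hq260 : q < 260 := by nlinarith
  lift j to ℕ using (by omega) with j'
  lift m to ℕ using (by omega) with m'
  lift q to ℕ using (by omega) with q'
  have keyN : j' * m' * (q' * q') + j' * m' + 3 * m' =
      9 * (q' * q') + (j' * m' + 12 * j' + 27) * q' + 3 * (j' * j') + 15 * j' + 18 := by
    zify; linear_combination key
  have hb : bad₃ q' j' m' = true := by
    simp only [bad₃, Bool.and_eq_true, decide_eq_true_eq, beq_iff_eq]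
    exact ⟨⟨⟨⟨by omega, by omega⟩, by omega⟩, by omega⟩, keyN⟩
  by_cases h29 : q' < 29
  · have := check_three q' h29 j' (by omega) m' (by omega)
    simp only [hb, Bool.not_true, Bool.false_or, Bool.or_eq_true, Bool.and_eq_true, beq_iff_eq] at this
    omega
  · have hj41 : j' ≤ 41 := by
      by_contra hgt
      have h42 : (42 : ℤ) ≤ (j' : ℤ) * m' := le_trans (by omega) hjm
      nlinarith
    have := check_three_large (q' - 29) (by omega) j' (by omega) m' (by omega)
    rw [show 29 + (q' - 29) = q' by omega] at this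
    simp only [hb, Bool.not_true, Bool.false_or, beq_iff_eq] at this
    omega

theorem not_two_primes {q a b : ℕ} (ha : a.Prime) (hb : b.Prime) (hab : a ≠ b) (hda : a ∣ q) (hdb : b ∣ q) :
    ¬ IsPrimePow q := by
  rintro ⟨p, k, hp, hk, rfl⟩
  have hp' := hp.nat_prime
  have h1 := (Nat.prime_dvd_prime_iff_eq ha hp').1 (ha.dvd_of_dvd_pow hda)
  have h2 := (Nat.prime_dvd_prime_iff_eq hb hp').1 (hb.dvd_of_dvd_pow hdb)
  exact hab (h1.trans h2.symm)

/-- the index of the normaliser in an overgroup -/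
theorem arith {q D E cb d : ℕ} (hq : IsPrimePow q) (hq4 : 4 ≤ q) (h5 : q ≠ 5)
    (hd : d = 1 ∧ q % 3 ≠ 2 ∨ d = 3 ∧ q % 3 = 2)
    (hcb : d * cb + q = q ^ 2 + 1) (h : 3 * (D * E) = q ^ 3 * (q + 1) ^ 2 * (q - 1)) (hD : cb ∣ D - 1) :
    D = 1 ∨ E = 1 ∨ q = 4 ∧ D = 40 ∨ q = 8 ∧ (D = 96 ∨ D = 1008) := by
  have hpos : 0 < q ^ 3 * (q + 1) ^ 2 * (q - 1) := by
    have : 0 < q - 1 := by omega
    positivity
  have hD1 : 1 ≤ D := by
    rcases Nat.eq_zero_or_pos D with e | e
    · subst e; simp at h; omega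
    · exact e
  have hE1 : 1 ≤ E := by
    rcases Nat.eq_zero_or_pos E with e | e
    · subst e; simp at h; omega
    · exact e
  have hz : (3 : ℤ) * ((D : ℤ) * E) = (q : ℤ) ^ 3 * ((q : ℤ) + 1) ^ 2 * ((q : ℤ) - 1) := by
    have := congrArg (Nat.cast : ℕ → ℤ) h
    push_cast [Nat.cast_sub (show 1 ≤ q by omega)] at this
    exact this
  have hcz : (d : ℤ) * cb = (q : ℤ) ^ 2 - q + 1 := by
    have := congrArg (Nat.cast : ℕ → ℤ) hcb
    push_cast at this
    linarith
  have hcb3 : ¬ 3 ∣ cb := by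
    intro h3
    obtain ⟨t, rfl⟩ := h3
    obtain ⟨s, r, hr, hqs⟩ : ∃ s r, r < 3 ∧ q = 3 * s + r := ⟨q / 3, q % 3, Nat.mod_lt _ (by norm_num), by omega⟩
    rcases hd with ⟨rfl, h⟩ | ⟨rfl, h⟩ <;> subst hqs <;> interval_cases r <;> ring_nf at hcb <;> omega
  obtain ⟨j, hj⟩ := hD
  have hjz : (D : ℤ) = 1 + cb * j := by
    rw [show D = 1 + cb * j by omega]; push_cast; ring
  have h3N : (3 : ℤ) * ((D : ℤ) * E) - 3 =
      ((q : ℤ) ^ 2 - q + 1) * (((q : ℤ) + 1) * ((q : ℤ) + 2) * ((q : ℤ) ^ 2 - q + 1) - (4 * q + 5)) := by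
    rw [hz]; ring
  obtain ⟨i, hiE⟩ : (cb : ℤ) ∣ (E : ℤ) - 1 := by
    have hcop : IsCoprime (cb : ℤ) 3 := by
      have := (Nat.prime_three.coprime_iff_not_dvd.2 hcb3).symm
      exact_mod_cast Nat.isCoprime_iff_coprime.2 this
    refine hcop.dvd_of_dvd_mul_left ?_
    have h1 : (cb : ℤ) ∣ 3 * ((D : ℤ) * E) - 3 := by
      rw [h3N]
      exact dvd_mul_of_dvd_left (show (cb : ℤ) ∣ (q : ℤ) ^ 2 - q + 1 from ⟨d, by rw [← hcz]; ring⟩) _
    have h2 : (cb : ℤ) ∣ 3 * (((D : ℤ) - 1) * E) := ⟨3 * (j * E), by rw [hjz]; ring⟩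
    have h3 := dvd_sub h1 h2
    rwa [show (3 : ℤ) * ((D : ℤ) * E) - 3 - 3 * (((D : ℤ) - 1) * E) = 3 * ((E : ℤ) - 1) by ring] at h3
  rcases Nat.eq_zero_or_pos j with rfl | hjp
  · exact Or.inl (by simp at hj; omega)
  have hEz : (E : ℤ) = 1 + cb * i := by linarith
  rcases Nat.lt_or_ge 1 E with hE2 | hE2
  swap
  · exact Or.inr (Or.inl (by omega))
  have hcb0 : (0 : ℤ) < cb := by
    rcases Nat.eq_zero_or_pos cb with e | e
    · simp [e] at hcb; nlinarith
    · exact_mod_cast e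
  have hip : (1 : ℤ) ≤ i := by
    by_contra hi'
    have : (cb : ℤ) * i ≤ 0 := mul_nonpos_of_nonneg_of_nonpos hcb0.le (by omega)
    omega
  have hjp' : (1 : ℤ) ≤ j := by exact_mod_cast hjp
  have hmul : (cb : ℤ) * (3 * (i + j) + 3 * (i * j) * cb) =
      (cb : ℤ) * ((d : ℤ) * (((q : ℤ) + 1) * ((q : ℤ) + 2) * ((q : ℤ) ^ 2 - q + 1) - (4 * q + 5))) := by
    have e : ((q : ℤ) ^ 2 - q + 1) = d * cb := hcz.symm
    have := h3N
    rw [hjz, hEz] at this
    rw [e] at this ⊢
    linear_combination this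
  have heq := mul_left_cancel₀ hcb0.ne' hmul
  have hne : ∀ n a b : ℕ, a.Prime → b.Prime → a ≠ b → a ∣ n → b ∣ n → (q : ℤ) ≠ n := fun n a b ha hb hab h1 h2 e => by
    have : q = n := by exact_mod_cast e
    exact not_two_primes ha hb hab h1 h2 (this ▸ hq)
  rcases hd with ⟨rfl, hmod⟩ | ⟨rfl, hmod⟩
  · have hc : (cb : ℤ) = (q : ℤ) ^ 2 - q + 1 := by rw [← hcz]; simp
    simp only [Nat.cast_one, one_mul] at heq
    rw [hc] at heq
    obtain ⟨e1, e2⟩ := core_one (by omega) (by omega)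
      (by exact_mod_cast hne 6 2 3 Nat.prime_two Nat.prime_three (by norm_num) (by norm_num) (by norm_num)) hip hjp' heq
    refine Or.inr (Or.inr (Or.inl ⟨by omega, ?_⟩))
    rw [e1] at hc
    norm_num at hc
    rw [e2, hc] at hjz
    omega
  · have hc : 3 * (cb : ℤ) = (q : ℤ) ^ 2 - q + 1 := by rw [← hcz]; simp
    have heq' : i + j + i * j * cb = 3 * (((q : ℤ) + 1) * ((q : ℤ) + 2)) * cb - (4 * q + 5) := by
      rw [← hc] at heq; push_cast at heq; linarith
    obtain ⟨e1, e2⟩ := core_three (by omega) (by omega)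
      (by exact_mod_cast hne 14 2 7 Nat.prime_two (by norm_num) (by norm_num) (by norm_num) (by norm_num))
      (by exact_mod_cast hne 35 5 7 Nat.prime_five (by norm_num) (by norm_num) (by norm_num) (by norm_num)) hc hip hjp' heq'
    refine Or.inr (Or.inr (Or.inr ⟨by omega, ?_⟩))
    rw [e1] at hc
    have hcb19 : (cb : ℤ) = 19 := by norm_num at hc; omega
    rw [hcb19] at hjz
    omega

end Cfsg.Agent.ClassicalMax.SU3.Singer
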