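import Cfsg.Agent.ClassicalMax.SL3.Singer.Field
import Cfsg.Agent.ClassicalMax.Unitary

/-!
A cubic field with a compatible involution as a unitary space: the normaliser inside the special unitary group.
-/

set_option autoImplicit false
set_option linter.unusedSectionVars false
set_option linter.style.haveILetI false

namespace Cfsg.Agent.ClassicalMax.SU3.Singer

open Module Cfsg.Agent.Classical Cfsg.Agent.ClassicalMax.SL3.Singer

variable {F L : Type*} [Field F] [Field L] [Algebra F L]
  {σ : F →+* F} {B : L →ₛₗ[σ] L →ₗ[F] F} {τ : L →+* L}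

/-- the involution of the field is the adjoint for the form -/
structure Ctx (B : L →ₛₗ[σ] L →ₗ[F] F) (τ : L →+* L) : Prop where
  herm : Herm.IsHerm B
  invol : Herm.IsInvol τ
  ext : ∀ a, τ (algebraMap F L a) = algebraMap F L (σ a)
  adj : ∀ k x z, B (τ k * x) z = B x (k * z)
  dim : finrank F L = 3

theorem Ctx.swap (h : Ctx B τ) (k x z : L) : B (k * x) z = B x (τ k * z) := by
  rw [← h.adj, h.invol.invol]

/-- the multiplications in the special unitary group -/
noncomputable def circ (F : Type*) {L : Type*} [Field F] [Field L] [Algebra F L] (τ : L →+* L) : Subgroup Lˣ :=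
  normOne F L ⊓ (Herm.normHom τ).ker

/-- the normaliser of the field in the special unitary group -/
noncomputable def norU [Finite L] (B : L →ₛₗ[σ] L →ₗ[F] F) : Subgroup (L ≃ₗ[F] L) := nor F L ⊓ Herm.suG B

theorem mul_tau_of_mem {x : Lˣ} (hx : x ∈ (Herm.normHom τ).ker) : (x : L) * τ x = 1 := by
  rw [← Herm.normHom_coe, MonoidHom.mem_ker.1 hx, Units.val_one]

theorem mulE_iso (h : Ctx B τ) {x : Lˣ} (hx : (x : L) * τ x = 1) (u v : L) :
    B (mulE F L x u) (mulE F L x v) = B u v := by
  rw [mulE_apply, mulE_apply, h.swap, ← mul_assoc, mul_comm (τ _), hx, one_mul]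

theorem circ_mem [Finite L] (h : Ctx B τ) {x : Lˣ} (hx : x ∈ circ F τ) : mulE F L x ∈ norU B :=
  ⟨mulE_mem_nor x, fun u v => mulE_iso h (mul_tau_of_mem hx.2) u v,
    Units.ext (by rw [LinearEquiv.coe_det, det_mulE]; exact mem_normOne.1 hx.1)⟩

/-- the determinant of a map multiplying the form by another one -/
theorem det_rel [Finite F] [FiniteDimensional F L] (hB : Herm.IsHerm B) (g D : L →ₗ[F] L)
    (hgD : ∀ x y, B (g x) (g y) = B x (D y)) : σ (LinearMap.det g) * LinearMap.det g = LinearMap.det D := by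
  classical
  obtain ⟨b, hb⟩ := Herm.exists_orthonormal hB
  have hrep : ∀ (x : L) i, B (b i) x = b.repr x i := fun x i => by
    conv_lhs => rw [← b.sum_repr x]
    rw [map_sum]
    simp [map_smul, hb i, Finset.sum_ite_eq]
  have key : ((LinearMap.toMatrix b b g).map σ).transpose * LinearMap.toMatrix b b g = LinearMap.toMatrix b b D := by
    ext i j
    rw [Matrix.mul_apply, LinearMap.toMatrix_apply, ← hrep, ← hgD]
    conv_rhs => rw [← b.sum_repr (g (b i))]
    rw [map_sum, LinearMap.sum_apply]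
    refine Finset.sum_congr rfl fun k _ => ?_
    rw [Matrix.transpose_apply, Matrix.map_apply, LinearMap.toMatrix_apply, LinearMap.toMatrix_apply, map_smulₛₗ,
      LinearMap.smul_apply, hrep, smul_eq_mul]
  have hdet := congrArg Matrix.det key
  rwa [Matrix.det_mul, Matrix.det_transpose, LinearMap.det_toMatrix, LinearMap.det_toMatrix,
    ← RingHom.mapMatrix_apply, ← RingHom.map_det, LinearMap.det_toMatrix] at hdet

variable [Fintype F] [Finite L]

theorem comm_pow (h : Ctx B τ) (e : L ≃ₐ[F] L) (x : L) : τ (e x) = e (τ x) := by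
  obtain ⟨p, hp⟩ := CharP.exists F
  haveI := Fact.mk (CharP.char_is_prime F p)
  obtain ⟨i, hi⟩ := FiniteField.exists_forall_apply_eq_pow F p L e
  rw [hi, hi, map_pow]

theorem norm_tau (h : Ctx B τ) (x : L) : Algebra.norm F (τ x) = σ (Algebra.norm F x) := by
  refine (algebraMap F L).injective ?_
  rw [← h.ext, FiniteField.algebraMap_norm_eq_pow, FiniteField.algebraMap_norm_eq_pow, map_pow]

theorem exists_norm_circle (h : Ctx B τ) {l : F} (hl : l * σ l = 1) :
    ∃ w : Lˣ, w ∈ (Herm.normHom τ).ker ∧ Algebra.norm F (w : L) = l := by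
  obtain ⟨z, hz0, hz⟩ := Herm.exists_conj_quot h.herm.toIsInvol hl
  obtain ⟨w, hw⟩ := FiniteField.norm_surjective F L z
  have hw0 : w ≠ 0 := fun e => hz0 (by rw [← hw, e, Algebra.norm_zero])
  have ht : τ w ≠ 0 := (map_ne_zero τ).2 hw0
  refine ⟨Units.mk0 (w / τ w) (div_ne_zero hw0 ht), MonoidHom.mem_ker.2 (Units.ext ?_), ?_⟩
  · rw [Herm.normHom_coe, Units.val_mk0, map_div₀, h.invol.invol, Units.val_one]
    field_simp
  · have e1 : Algebra.norm F (w / τ w) * Algebra.norm F (τ w) = Algebra.norm F w := by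
      rw [← map_mul, div_mul_cancel₀ _ ht]
    rw [Units.val_mk0, ← hz, eq_div_iff ((map_ne_zero σ).2 hz0)]
    rwa [norm_tau h, hw] at e1

theorem card_fix (h : Ctx B τ) {q : ℕ} (hF : Fintype.card F = q ^ 2) : Nat.card (Herm.fixField τ) = q ^ 3 := by
  have h1 := Herm.card_eq_fix_sq h.invol
  rw [card_field h.dim, hF, ← pow_mul, show q ^ (2 * 3) = (q ^ 3) ^ 2 by rw [← pow_mul]] at h1
  exact (Nat.pow_left_injective two_ne_zero h1).symm

theorem card_circ (h : Ctx B τ) {q : ℕ} (hF : Fintype.card F = q ^ 2) :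
    Nat.card (circ F τ) + q = q ^ 2 + 1 := by
  let δ : (Herm.normHom τ).ker →* (Herm.normHom σ).ker :=
    ((Units.map (Algebra.norm F : L →* F)).comp (Herm.normHom τ).ker.subtype).codRestrict _ fun x =>
      MonoidHom.mem_ker.2 (Units.ext (by
        rw [Herm.normHom_coe]
        show Algebra.norm F ((x : Lˣ) : L) * σ (Algebra.norm F ((x : Lˣ) : L)) = 1
        rw [← norm_tau h, ← map_mul, mul_tau_of_mem x.2, map_one]))
  have hsurj : Function.Surjective δ := fun l => by
    obtain ⟨w, hw, hwl⟩ := exists_norm_circle h (mul_tau_of_mem (τ := σ) l.2)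
    exact ⟨⟨w, hw⟩, Subtype.ext (Units.ext hwl)⟩
  have h1 := δ.ker.index_mul_card
  have hq : Nat.card (Herm.fixField σ) = q := by
    have := Herm.card_eq_fix_sq h.herm.toIsInvol
    rw [Nat.card_eq_fintype_card (α := F), hF] at this
    exact (Nat.pow_left_injective two_ne_zero this).symm
  rw [Subgroup.index_ker, MonoidHom.range_eq_top.2 hsurj, Subgroup.card_top, Herm.card_ker_normHom h.herm.toIsInvol,
    Herm.card_ker_normHom h.invol, card_fix h hF, hq] at h1
  have h2 : Nat.card δ.ker = Nat.card (circ F τ) := Nat.card_congr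
    ⟨fun x => ⟨x.1.1, congrArg Subtype.val (x.2 : δ x.1 = 1), x.1.2⟩,
      fun y => ⟨⟨y.1, y.2.2⟩, MonoidHom.mem_ker.2 (Subtype.ext (MonoidHom.mem_ker.1 y.2.1))⟩, fun _ => rfl, fun _ => rfl⟩
  rw [h2] at h1
  have h3 : q ^ 3 + 1 + q * (q + 1) = (q + 1) * (q ^ 2 + 1) := by ring
  rw [← h1] at h3
  exact Nat.eq_of_mul_eq_mul_left (show 0 < q + 1 by omega) (by rw [← h3]; ring)

theorem exists_adjust (h : Ctx B τ) (e : L ≃ₐ[F] L) :
    ∃ a : Lˣ, mulE F L a * e.toLinearEquiv ∈ Herm.suG B := by
  haveI : FiniteDimensional F L := Module.finite_of_finrank_pos (by rw [h.dim]; norm_num)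
  have hB := h.herm
  obtain ⟨w, hw⟩ := Herm.exists_repr hB ((B (e 1)).comp e.toLinearEquiv.toLinearMap)
  have hwz : ∀ z, B w z = B (e 1) (e z) := hw
  set k := τ w with hk
  have hform : ∀ u v, B (e u) (e v) = B u (k * v) := fun u v => by
    conv_lhs => rw [← mul_one u, map_mul, h.swap, comm_pow h, ← map_mul, ← hwz, ← h.swap, mul_comm u w, h.swap]
  have hk0 : k ≠ 0 := fun e0 => by
    refine one_ne_zero (α := L) (e.injective ?_)
    rw [map_zero]
    refine hB.nondeg _ fun y => ?_
    have := hform 1 (e.symm y)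
    rwa [e.apply_symm_apply, e0, zero_mul, map_zero] at this
  have hkfix : τ k = k := by
    refine sub_eq_zero.1 ((mul_eq_zero_iff_right (one_ne_zero (α := L))).1 ?_)
    refine hB.nondeg _ fun u => ?_
    have e1 : B (k * 1) u = B (τ k * 1) u := by
      rw [← hB.symm u (k * 1), ← hform u 1, hB.symm, hform, h.adj]
    rw [sub_mul, map_sub, LinearMap.sub_apply, e1, sub_self]
  obtain ⟨a, ha⟩ := Herm.exists_norm h.invol (a := e k⁻¹) (by rw [comm_pow h, map_inv₀, hkfix])
  have ha0 : a ≠ 0 := fun e0 => by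
    rw [e0, zero_mul] at ha
    exact inv_ne_zero hk0 ((map_eq_zero e).1 ha.symm)
  set g := mulE F L (Units.mk0 a ha0) * e.toLinearEquiv with hg
  have hgi : ∀ u v, B (g u) (g v) = B u v := fun u v => by
    show B (a * e u) (a * e v) = B u v
    rw [h.swap, ← mul_assoc, mul_comm (τ a), ha, ← map_mul, hform, mul_inv_cancel_left₀ hk0]
  have hdg : LinearMap.det g.toLinearMap * σ (LinearMap.det g.toLinearMap) = 1 := by
    have := det_rel hB g.toLinearMap LinearMap.id (fun u v => hgi u v)
    rwa [LinearMap.det_id, mul_comm] at this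
  obtain ⟨b, hb, hbn⟩ := exists_norm_circle h (l := (LinearMap.det g.toLinearMap)⁻¹) (by
    rw [map_inv₀, ← mul_inv, hdg, inv_one])
  refine ⟨b * Units.mk0 a ha0, fun u v => ?_, Units.ext ?_⟩
  · rw [map_mul, mul_assoc]
    show B (mulE F L b (g u)) (mulE F L b (g v)) = _
    rw [mulE_iso h (mul_tau_of_mem hb), hgi]
  · rw [map_mul (mulE F L), mul_assoc, map_mul, Units.val_mul, LinearEquiv.coe_det, LinearEquiv.coe_det, det_mulE, hbn,
      Units.val_one]
    exact inv_mul_cancel₀ (LinearEquiv.isUnit_det' g).ne_zero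

theorem card_norU (h : Ctx B τ) : Nat.card (norU B) = 3 * Nat.card (circ F τ) := by
  haveI : FiniteDimensional F L := Module.finite_of_finrank_pos (by rw [h.dim]; norm_num)
  choose a ha using exists_adjust h
  have hmk : ∀ (c : Lˣ) (e : L ≃ₐ[F] L),
      mulE F L (c * a e) * e.toLinearEquiv = mulE F L c * (mulE F L (a e) * e.toLinearEquiv) := fun c e => by
    rw [map_mul, mul_assoc]
  let f : circ F τ × (L ≃ₐ[F] L) → norU B := fun p =>
    ⟨mulE F L ((p.1 : Lˣ) * a p.2) * p.2.toLinearEquiv, mul_mem (mulE_mem_nor _) (fun x => ⟨p.2 x, fun z => map_mul p.2 x z⟩),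
      by rw [hmk]; exact mul_mem (circ_mem h p.1.2).2 (ha p.2)⟩
  have hb : Function.Bijective f := by
    constructor
    · rintro ⟨c, e⟩ ⟨c', e'⟩ h'
      have h'' : ∀ z, ((c : Lˣ) : L) * (a e : L) * e z = ((c' : Lˣ) : L) * (a e' : L) * e' z := fun z =>
        congrArg (fun g : norU B => (g : L ≃ₗ[F] L) z) h'
      have h1 := h'' 1
      rw [map_one, map_one, mul_one, mul_one] at h1
      have he : e = e' := AlgEquiv.ext fun z => mul_left_cancel₀
        (mul_ne_zero c.1.ne_zero (a e).ne_zero) ((h'' z).trans (by rw [h1]))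
      subst he
      have hc : c = c' := Subtype.ext (Units.ext (mul_right_cancel₀ (a e).ne_zero h1))
      rw [hc]
    · rintro ⟨g, hgN, hgS⟩
      have hgN' : ∀ x : L, ∃ y : L, ∀ z, g (x * z) = y * g z := hgN
      choose y hy using hgN'
      have hne : g 1 ≠ 0 := g.map_ne_zero_iff.2 one_ne_zero
      have hy1 : ∀ x, g x = y x * g 1 := fun x => by simpa using hy x 1
      let e₀ : L →ₐ[F] L := AlgHom.ofLinearMap ((LinearMap.mulRight F (g 1)⁻¹).comp g.toLinearMap)
        (mul_inv_cancel₀ hne)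
        (fun x z => by
          show g (x * z) * (g 1)⁻¹ = g x * (g 1)⁻¹ * (g z * (g 1)⁻¹)
          rw [hy, hy1 x]
          field_simp)
      let e : L ≃ₐ[F] L := AlgEquiv.ofBijective e₀ (Finite.injective_iff_bijective.1 e₀.toRingHom.injective)
      have he : ∀ x, g x = g 1 * e x := fun x => by
        show g x = g 1 * (g x * (g 1)⁻¹)
        field_simp
      set b := Units.mk0 _ hne * (a e)⁻¹ with hbd
      have hgb : g = mulE F L b * (mulE F L (a e) * e.toLinearEquiv) := by
        rw [← mul_assoc, ← map_mul, hbd, inv_mul_cancel_right]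
        exact LinearEquiv.ext he
      have hbS : mulE F L b ∈ Herm.suG B := by
        have := mul_mem (show g ∈ Herm.suG B from hgS) (inv_mem (ha e))
        rwa [hgb, mul_inv_cancel_right] at this
      have hbt : (b : L) * τ b = 1 := by
        refine sub_eq_zero.1 ((mul_eq_zero_iff_right (one_ne_zero (α := L))).1 ?_)
        refine h.herm.nondeg _ fun z => ?_
        have h1 := hbS.1 1 z
        rw [mulE_apply, mulE_apply, h.swap, ← mul_assoc] at h1
        have key : B ((b : L) * τ b * 1) z = B 1 z := by rwa [h.swap, map_mul τ, h.invol.invol]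
        rw [sub_mul, map_sub, LinearMap.sub_apply, key, one_mul, sub_self]
      refine ⟨(⟨b, ?_, MonoidHom.mem_ker.2 (Units.ext hbt)⟩, e), Subtype.ext ?_⟩
      · show b ∈ normOne F L
        rw [mem_normOne, ← det_mulE, ← LinearEquiv.coe_det, hbS.2, Units.val_one]
      · show mulE F L (b * a e) * e.toLinearEquiv = g
        rw [hmk, ← hgb]
  rw [← Nat.card_eq_of_bijective f hb, Nat.card_prod, IsGalois.card_aut_eq_finrank, h.dim, mul_comm]

end Cfsg.Agent.ClassicalMax.SU3.Singer
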