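import Cfsg.Agent.ClassicalMax.SL3.Singer.Main

/-!
The index of a subgroup of semilinear maps in an overgroup, when it contains a group of multiplications of norm one.
-/

set_option autoImplicit false
set_option linter.unusedSectionVars false
set_option linter.style.haveILetI false

namespace Cfsg.Agent.ClassicalMax.SU3.Singer

open Module Cfsg.Agent.ClassicalMax.SL3.Singer

variable {F L : Type*} [Field F] [Field L] [Algebra F L] [Fintype F] [Finite L]

/-- the index is one more than a multiple of the reduced order of the group of multiplications -/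
theorem dvd_index_of (h3 : finrank F L = 3) {A : Subgroup Lˣ} (hA : A ≤ normOne F L) {H M : Subgroup (L ≃ₗ[F] L)}
    (hH : H ≤ nor F L) (hAH : ∀ a ∈ A, mulE F L a ∈ H) (hHM : H ≤ M) (hback : ∀ g ∈ M, g ∈ nor F L → g ∈ H) :
    Nat.card A / Nat.gcd (Nat.card A) 3 ∣ (H.subgroupOf M).index - 1 := by
  classical
  haveI : Finite (L ≃ₗ[F] L) := Finite.of_injective _ DFunLike.coe_injective
  set c := Nat.card A with hc
  set H' := H.subgroupOf M with hH'
  let X := M ⧸ H'
  let f : A →* M := ((mulE F L).comp A.subtype).codRestrict M fun a => hHM (hAH _ a.2)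
  letI : MulAction A X := MulAction.compHom X f
  let base : X := ((1 : M) : M ⧸ H')
  have hmem : ∀ a : A, f a ∈ H' := fun a => hAH _ a.2
  have hfix : ∀ a : A, a • base = base := fun a => by
    show ((f a * 1 : M) : M ⧸ H') = _
    refine QuotientGroup.eq.2 ?_
    rw [mul_one, mul_one, Subgroup.inv_mem_iff]
    exact hmem a
  have hstab : ∀ x : X, x ≠ base → MulAction.stabilizer A x = (powMonoidHom 3 : A →* A).ker := by
    intro x hx
    obtain ⟨g, rfl⟩ := QuotientGroup.mk_surjective x
    ext a
    rw [MulAction.mem_stabilizer_iff]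
    constructor
    · intro ha
      have ha' : ((f a * g : M) : M ⧸ H') = (g : M ⧸ H') := ha
      have hk : (g : L ≃ₗ[F] L)⁻¹ * (mulE F L (a : Lˣ) * g) ∈ H := by
        have := QuotientGroup.eq.1 ha'.symm
        simpa [hH', Subgroup.mem_subgroupOf, f] using this
      set k := (g : L ≃ₗ[F] L)⁻¹ * (mulE F L (a : Lˣ) * g) with hkd
      have hk3 : ∀ z, (g : L ≃ₗ[F] L) ((k ^ 3) 1 * z) = ((a : Lˣ) ^ 3 : Lˣ) * (g : L ≃ₗ[F] L) z := fun z => by
        rw [← pow_three_mul h3 (hH hk) z, ← LinearEquiv.mul_apply,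
          show (g : L ≃ₗ[F] L) * k ^ 3 = mulE F L ((a : Lˣ) ^ 3) * g by rw [map_pow, hkd, pow_succ, pow_two, pow_succ, pow_two]; group,
          LinearEquiv.mul_apply, mulE_apply]
      by_contra hne
      refine hx (QuotientGroup.eq.2 ?_)
      have hgn : (g : L ≃ₗ[F] L) ∈ nor F L := by
        refine mem_nor_of_one h3 (x := (k ^ 3) 1) (fun hb => hne ?_) ⟨_, hk3⟩
        obtain ⟨l, hl⟩ := Algebra.mem_bot.1 hb
        refine Subtype.ext (scalar_of_cube h3 (hA a.2) (Algebra.mem_bot.2 ⟨l, ?_⟩))
        have h1 := hk3 ((g : L ≃ₗ[F] L)⁻¹ 1)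
        rw [← hl, ← Algebra.smul_def, map_smul, apply_inv, mul_one, Algebra.smul_def, mul_one] at h1
        exact h1
      show (g⁻¹ * 1 : M) ∈ H'
      rw [mul_one, Subgroup.inv_mem_iff]
      exact hback _ g.2 hgn
    · intro ha
      obtain ⟨l, hl⟩ := Algebra.mem_bot.1 (cube_scalar h3 (x := (a : Lˣ)) (congrArg Subtype.val (ha : a ^ 3 = 1)))
      show ((f a * g : M) : M ⧸ H') = _
      have e : f a * g = g * f a := Subtype.ext (LinearEquiv.ext fun z => by
        show (a : Lˣ) * (g : L ≃ₗ[F] L) z = (g : L ≃ₗ[F] L) ((a : Lˣ) * z)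
        rw [← hl, ← Algebra.smul_def, ← Algebra.smul_def, map_smul])
      rw [e]
      exact (QuotientGroup.eq.2 (by simpa using hmem a)).symm
  set n := c / Nat.gcd c 3 with hn
  have hn' : Nat.card (powMonoidHom 3 : A →* A).ker * n = c := by
    rw [IsCyclic.card_powMonoidHom_ker, hn, Nat.mul_div_cancel' (Nat.gcd_dvd_left _ _)]
  have horb : ∀ x : X, (Nat.card (MulAction.orbit A x) : ZMod n) = if x = base then 1 else 0 := by
    intro x
    split_ifs with hx
    · have : MulAction.orbit A x = {base} := by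
        subst hx
        ext y
        exact ⟨fun ⟨a, e⟩ => e ▸ hfix a, fun e => ⟨1, by rw [e]; exact one_smul _ _⟩⟩
      rw [this]
      simp
    · have h1 := Subgroup.card_mul_index (MulAction.stabilizer A x)
      rw [MulAction.index_stabilizer, hstab x hx] at h1
      have h2 : Nat.card (MulAction.orbit A x) = n := by
        rw [Nat.card_coe_set_eq]
        exact Nat.eq_of_mul_eq_mul_left Nat.card_pos (h1.trans hn'.symm)
      rw [h2, ZMod.natCast_self]
  haveI : Fintype X := Fintype.ofFinite X
  haveI : Fintype (MulAction.orbitRel.Quotient A X) := Fintype.ofFinite _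
  have hcount : ((Nat.card X : ℕ) : ZMod n) = 1 := by
    rw [Nat.card_congr (MulAction.selfEquivSigmaOrbits A X), Nat.card_sigma, Nat.cast_sum,
      Finset.sum_eq_single (Quotient.mk'' base : MulAction.orbitRel.Quotient A X)]
    · rw [horb, if_pos]
      have h := Quotient.out_eq (Quotient.mk'' base : MulAction.orbitRel.Quotient A X)
      obtain ⟨a, ha⟩ := MulAction.orbitRel_apply.1 (Quotient.exact h)
      exact ha.symm.trans (hfix a)
    · intro ω _ hω
      rw [horb, if_neg]
      intro e
      exact hω (by rw [← Quotient.out_eq ω, e])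
    · exact fun h => absurd (Finset.mem_univ _) h
  have hpos : 1 ≤ Nat.card X := Nat.card_pos
  show n ∣ Nat.card X - 1
  rw [← CharP.cast_eq_zero_iff (ZMod n) n, Nat.cast_sub hpos, hcount, Nat.cast_one, sub_self]

end Cfsg.Agent.ClassicalMax.SU3.Singer
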