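import Cfsg.Agent.ClassicalMax.SU3.Base
import Cfsg.Agent.ClassicalMax.SU3.Singer.Field
import Cfsg.Agent.ClassicalMax.SL3.Singer.Main
import Mathlib.LinearAlgebra.Projectivization.Action

/-!
The overgroups of sporadic order: they contain a root group, found by counting isotropic points.
-/

set_option autoImplicit false
set_option linter.unusedSectionVars false
set_option linter.style.haveILetI false

namespace Cfsg.Agent.ClassicalMax.SU3.Singer

open Module Cfsg.Agent.Classical Cfsg.Agent.ClassicalMax.SL3.Singer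

section Rigid

variable {F V : Type*} [Field F] [Finite F] [AddCommGroup V] [Module F V] [FiniteDimensional F V] {σ : F →+* F}
  {B : V →ₛₗ[σ] V →ₗ[F] F}

/-- an isometry fixing a plane pointwise moves along one direction orthogonal to it -/
theorem exists_rank_one (h3 : finrank F V = 3) {g : V ≃ₗ[F] V} (hg : ∀ x y, B (g x) (g y) = B x y)
    {P : Submodule F V} (hP : 2 ≤ finrank F P) (hfix : ∀ y ∈ P, g y = y) :
    ∃ (ψ : Dual F V) (n : V), (∀ x, g x = x + ψ x • n) ∧ (g ≠ 1 → n ≠ 0 ∧ (∃ x, ψ x = 1) ∧ ∀ y ∈ P, B n y = 0) := by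
  by_cases h1 : g = 1
  · exact ⟨0, 0, fun x => by rw [h1]; simp, fun h => absurd h1 h⟩
  set N : V →ₗ[F] V := g.toLinearMap - LinearMap.id with hN
  have hNx : ∀ x, N x = g x - x := fun x => rfl
  obtain ⟨x₀, hx₀⟩ : ∃ x, N x ≠ 0 := by
    by_contra! hc
    exact h1 (LinearEquiv.ext fun x => sub_eq_zero.1 (hc x))
  have hPker : P ≤ LinearMap.ker N := fun y hy => by rw [LinearMap.mem_ker, hNx, hfix y hy, sub_self]
  have hr : finrank F (LinearMap.range N) ≤ 1 := by
    have := LinearMap.finrank_range_add_finrank_ker N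
    have := Submodule.finrank_mono hPker
    omega
  have heq : LinearMap.range N = F ∙ N x₀ := (Submodule.eq_of_le_of_finrank_le
    ((Submodule.span_singleton_le_iff_mem _ _).2 (LinearMap.mem_range_self N x₀))
    (by rw [finrank_span_singleton hx₀]; exact hr)).symm
  obtain ⟨φ, hφ, -⟩ := exists_dual_one (⊥ : Submodule F V) (x := N x₀) (by rwa [Submodule.mem_bot])
  have hrep : ∀ x, N x = φ (N x) • N x₀ := fun x => by
    obtain ⟨a, ha⟩ := Submodule.mem_span_singleton.1 (heq.le (LinearMap.mem_range_self N x))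
    rw [← ha, map_smul, hφ, smul_eq_mul, mul_one]
  refine ⟨φ.comp N, N x₀, fun x => ?_, fun _ => ⟨hx₀, ⟨x₀, hφ⟩, fun y hy => ?_⟩⟩
  · rw [LinearMap.comp_apply, ← hrep, hNx]; abel
  · have h := hg x₀ y
    rw [hfix y hy, show g x₀ = x₀ + N x₀ by rw [hNx]; abel, map_add, LinearMap.add_apply, add_eq_left] at h
    exact h

/-- an isometry fixing a non-degenerate plane pointwise, without admissible eigenvalue, is the identity -/
theorem eq_one_of_plane (hB : Herm.IsHerm B) (h3 : finrank F V = 3) {g : V ≃ₗ[F] V}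
    (hg : ∀ x y, B (g x) (g y) = B x y) {P : Submodule F V} (hP : 2 ≤ finrank F P) (hfix : ∀ y ∈ P, g y = y)
    (hPn : ∀ n, (∀ y ∈ P, B n y = 0) → B n n = 0 → n = 0) {m : ℕ} (hm : g ^ m = 1)
    (hev : ∀ ν : F, ν ^ m = 1 → ν * σ ν = 1 → ν = 1) : g = 1 := by
  by_contra h1
  obtain ⟨ψ, n, hgx, hne⟩ := exists_rank_one h3 hg hP hfix
  obtain ⟨hn0, ⟨x₁, hx₁⟩, hperp⟩ := hne h1
  have hnn : B n n ≠ 0 := fun h => hn0 (hPn n hperp h)
  set ν := 1 + ψ n with hν
  have hgn : g n = ν • n := by rw [hgx, hν, add_smul, one_smul]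
  have hν1 : ν * σ ν = 1 := by
    have h := hg n n
    rw [hgn, Herm.smul_self hB] at h
    exact (mul_eq_right₀ hnn).1 h
  have hpow : ∀ k : ℕ, (g ^ k) n = ν ^ k • n := by
    intro k
    induction k with
    | zero => simp
    | succ k ih => rw [pow_succ', LinearEquiv.mul_apply, ih, map_smul, hgn, smul_smul, ← pow_succ]
  have hνm : ν ^ m = 1 := by
    have h := hpow m
    rw [hm, show (1 : V ≃ₗ[F] V) n = (1 : F) • n by rw [one_smul]; rfl] at h
    exact (smul_left_injective F hn0 h).symm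
  have hψn : ψ n = 0 := by
    have := hev ν hνm hν1
    rwa [hν, add_eq_left] at this
  have h := hg x₁ n
  rw [hgn, hev ν hνm hν1, one_smul, hgx, hx₁, one_smul, map_add, LinearMap.add_apply, add_eq_left] at h
  exact hnn h

/-- a non-trivial involutory isometry in characteristic two is a transvection -/
theorem involution_tvU (hB : Herm.IsHerm B) (h3 : finrank F V = 3) (h2 : (2 : F) = 0) {t : V ≃ₗ[F] V}
    (ht : ∀ x y, B (t x) (t y) = B x y) (ht1 : t ≠ 1) (htt : t * t = 1) {v : V} (hv0 : v ≠ 0) (hv : B v v = 0)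
    (htv : t v = v) : ∃ c, c ≠ 0 ∧ c + σ c = 0 ∧ t = Herm.tvU hv c := by
  set N : V →ₗ[F] V := t.toLinearMap - LinearMap.id with hN
  have hrk : LinearMap.range N ≤ LinearMap.ker N := by
    rintro _ ⟨x, rfl⟩
    show t (t x - x) - (t x - x) = 0
    rw [map_sub, ← LinearEquiv.mul_apply, htt, show (1 : V ≃ₗ[F] V) x = x from rfl,
      show x - t x - (t x - x) = (2 : F) • x - (2 : F) • t x by module, h2, zero_smul, zero_smul, sub_zero]
  have hk2 : 2 ≤ finrank F (LinearMap.ker N) := by
    have := LinearMap.finrank_range_add_finrank_ker N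
    have := Submodule.finrank_mono hrk
    omega
  obtain ⟨ψ, n, htx, hne⟩ := exists_rank_one h3 ht hk2 (fun y hy => sub_eq_zero.1 hy)
  obtain ⟨hn0, ⟨x₁, hx₁⟩, hperp⟩ := hne ht1
  have hNx : ∀ x, N x = ψ x • n := fun x => by show t x - x = _; rw [htx]; abel
  have hψn : ψ n = 0 := by
    have h1 : N n = 0 := hrk ⟨x₁, by rw [hNx, hx₁, one_smul]⟩
    rw [hNx, smul_eq_zero] at h1
    exact h1.resolve_right hn0
  have hnn : B n n = 0 := hperp n (by rw [LinearMap.mem_ker, hNx, hψn, zero_smul])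
  have hnv : B n v = 0 := hperp v (by rw [LinearMap.mem_ker]; show t v - v = 0; rw [htv, sub_self])
  obtain ⟨a, ha⟩ := SU3.orth_dep hB (by omega) hv0 hv hnn ((Herm.eq_zero_comm hB).1 hnv)
  have ha0 : a ≠ 0 := fun e => hn0 (by rw [← ha, e, zero_smul])
  have hk0 : B n x₁ ≠ 0 := fun e => hn0 (hB.nondeg n fun y => by
    have hy : y - ψ y • x₁ ∈ LinearMap.ker N := by
      rw [LinearMap.mem_ker, hNx, map_sub, map_smul, hx₁, smul_eq_mul, mul_one, sub_self, zero_smul]
    have := hperp _ hy
    rwa [map_sub, map_smul, e, smul_zero, sub_zero] at this)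
  have hψ : ∀ x, B n x = ψ x * B n x₁ := fun x => by
    have hy : x - ψ x • x₁ ∈ LinearMap.ker N := by
      rw [LinearMap.mem_ker, hNx, map_sub, map_smul, hx₁, smul_eq_mul, mul_one, sub_self, zero_smul]
    have := hperp _ hy
    rwa [map_sub, map_smul, smul_eq_mul, sub_eq_zero] at this
  have hskew : B n x₁ + B x₁ n = 0 := by
    have h := ht x₁ x₁
    simp only [htx, hx₁, one_smul, map_add, LinearMap.add_apply, hnn, add_zero] at h
    linear_combination h
  refine ⟨a * σ a / B n x₁, div_ne_zero (mul_ne_zero ha0 ((map_ne_zero σ).2 ha0)) hk0, ?_,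
    LinearEquiv.ext fun x => ?_⟩
  · rw [map_div₀, map_mul, hB.invol, hB.symm, show B x₁ n = -B n x₁ by linear_combination hskew]
    field_simp
    ring
  · rw [Herm.tvU_apply, htx]
    congr 1
    rw [← ha, smul_smul]
    congr 1
    have h := hψ x
    rw [← ha, map_smulₛₗ, LinearMap.smul_apply, LinearMap.smul_apply, smul_eq_mul, smul_eq_mul] at h
    rw [div_mul_eq_mul_div, eq_div_iff (by rw [← ha] at hk0; exact hk0)]
    rw [map_smulₛₗ, LinearMap.smul_apply, smul_eq_mul]
    linear_combination -a * h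

/-- a plane spanned by an isotropic pair is non-degenerate -/
theorem hyperbolic_nondeg (hB : Herm.IsHerm B) (h3 : finrank F V = 3) {v f : V} (hv0 : v ≠ 0) (hv : B v v = 0)
    (hvf : B v f ≠ 0) : ∀ n, (∀ y ∈ Submodule.span F ({v, f} : Set V), B n y = 0) → B n n = 0 → n = 0 := by
  intro n hn hnn
  have h1 := hn v (Submodule.subset_span (Set.mem_insert _ _))
  have h2 := hn f (Submodule.subset_span (Set.mem_insert_of_mem _ rfl))
  obtain ⟨a, rfl⟩ := SU3.orth_dep hB (by omega) hv0 hv hnn ((Herm.eq_zero_comm hB).1 h1)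
  rw [map_smulₛₗ, LinearMap.smul_apply, smul_eq_mul, mul_eq_zero] at h2
  rw [(map_eq_zero σ).1 (h2.resolve_right hvf), zero_smul]

theorem finrank_pair {v f : V} (hv0 : v ≠ 0) (h : f ∉ F ∙ v) : 2 ≤ finrank F (Submodule.span F ({v, f} : Set V)) := by
  have hli : LinearIndependent F ![v, f] :=
    (LinearIndependent.pair_iff' hv0).2 fun a e => h (Submodule.mem_span_singleton.2 ⟨a, e⟩)
  have := finrank_span_eq_card hli
  rw [Matrix.range_cons, Matrix.range_cons, Matrix.range_empty, Set.union_empty, Set.singleton_union,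
    Fintype.card_fin] at this
  omega

theorem fix_pair {g : V ≃ₗ[F] V} {v f : V} (hv : g v = v) (hf : g f = f) :
    ∀ y ∈ Submodule.span F ({v, f} : Set V), g y = y := fun y hy => by
  obtain ⟨a, b, rfl⟩ := Submodule.mem_span_pair.1 hy
  rw [map_add, map_smul, map_smul, hv, hf]

theorem two_pow_one (h2 : (2 : F) = 0) {ν : F} {k : ℕ} (h : ν ^ (2 ^ k) = 1) : ν = 1 := by
  haveI : CharP F 2 := CharTwo.of_one_ne_zero_of_two_eq_zero one_ne_zero h2
  haveI : Fact (Nat.Prime 2) := ⟨Nat.prime_two⟩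
  refine sub_eq_zero.1 (eq_zero_of_pow_eq_zero (n := 2 ^ k) ?_)
  rw [sub_pow_char_pow, h, one_pow, sub_self]

/-- a two-group of isometries with more than one element fixes an isotropic vector -/
theorem exists_fixed_isotropic [Finite V] (hB : Herm.IsHerm B) (h3 : finrank F V = 3) (h2 : (2 : F) = 0)
    {S : Subgroup (V ≃ₗ[F] V)} (hS : IsPGroup 2 S) (hiso : ∀ g ∈ S, ∀ x y, B (g x) (g y) = B x y) (hS1 : S ≠ ⊥) :
    ∃ v : V, v ≠ 0 ∧ B v v = 0 ∧ ∀ g ∈ S, g v = v := by
  haveI : Finite (V ≃ₗ[F] V) := Finite.of_injective _ DFunLike.coe_injective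
  haveI : Fact (Nat.Prime 2) := ⟨Nat.prime_two⟩
  have heven : 2 ∣ Nat.card F := by
    haveI : CharP F 2 := CharTwo.of_one_ne_zero_of_two_eq_zero one_ne_zero h2
    have := Fintype.ofFinite F
    obtain ⟨k, -, hk⟩ := FiniteField.card F 2
    rw [Nat.card_eq_fintype_card, hk]
    exact dvd_pow_self 2 k.ne_zero
  have hex : ∀ U : Submodule F V, (∀ g ∈ S, ∀ u ∈ U, g u ∈ U) → U ≠ ⊥ → ∃ u ∈ U, u ≠ 0 ∧ ∀ g ∈ S, g u = u := by
    intro U hU hU0
    letI : MulAction S U :=
      { smul := fun g u => ⟨(g : V ≃ₗ[F] V) u, hU _ g.2 _ u.2⟩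
        one_smul := fun u => rfl
        mul_smul := fun g h u => rfl }
    have hdim : finrank F U ≠ 0 := fun h => hU0 (Submodule.finrank_eq_zero.1 h)
    obtain ⟨b, hb, hb0⟩ := hS.exists_fixed_point_of_prime_dvd_card_of_fixed_point U
      (by rw [Module.natCard_eq_pow_finrank (K := F)]; exact dvd_pow heven hdim)
      (a := (0 : U)) (fun g => Subtype.ext (map_zero (g : V ≃ₗ[F] V)))
    exact ⟨b, b.2, fun e => hb0 (Subtype.ext e).symm, fun g hg => congrArg Subtype.val (hb ⟨g, hg⟩)⟩
  obtain ⟨w, -, hw0, hw⟩ := hex ⊤ (fun _ _ _ _ => Submodule.mem_top) (fun e => by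
    have := congrArg (fun U : Submodule F V => finrank F U) e
    simp [h3] at this)
  by_cases hww : B w w = 0
  · exact ⟨w, hw0, hww, hw⟩
  obtain ⟨u, hu, hu0, hu'⟩ := hex (LinearMap.ker (B w))
    (fun g hg u hu => by rw [LinearMap.mem_ker] at hu ⊢; rw [← hw g hg, hiso g hg, hu])
    (fun e => by
      have h1 := LinearMap.finrank_range_add_finrank_ker (B w)
      have h4 := Submodule.finrank_le (LinearMap.range (B w))
      rw [e, finrank_bot] at h1
      rw [finrank_self] at h4
      omega)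
  by_cases huu : B u u = 0
  · exact ⟨u, hu0, huu, hu'⟩
  exfalso
  refine hS1 (Subgroup.eq_bot_iff_forall _ |>.2 fun g hg => ?_)
  obtain ⟨k, hk⟩ := hS ⟨g, hg⟩
  refine eq_one_of_plane hB h3 (hiso g hg) (finrank_pair hw0 fun h => hu0 ?_) (fix_pair (hw g hg) (hu' g hg))
    (fun n hn _ => ?_) (m := 2 ^ k) (congrArg Subtype.val hk) (fun ν h _ => two_pow_one h2 h)
  · obtain ⟨a, rfl⟩ := Submodule.mem_span_singleton.1 h
    rw [LinearMap.mem_ker, map_smul, smul_eq_mul, mul_eq_zero] at hu
    rw [hu.resolve_right hww, zero_smul]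
  · have hn1 := hn w (Submodule.subset_span (Set.mem_insert _ _))
    have hn2 := hn u (Submodule.subset_span (Set.mem_insert_of_mem _ rfl))
    rw [LinearMap.mem_ker] at hu
    by_contra hn0
    have hli : LinearIndependent F ![w, u, n] := by
      rw [Fintype.linearIndependent_iff]
      intro c hc
      rw [Fin.sum_univ_three] at hc
      simp only [Matrix.cons_val_zero, Matrix.cons_val_one, Matrix.cons_val_two, Matrix.tail_cons, Matrix.head_cons] at hc
      have a0 := congrArg (B w) hc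
      simp [(Herm.eq_zero_comm hB).1 hn1, hu, hww] at a0
      have a1 := congrArg (B u) hc
      simp [(Herm.eq_zero_comm hB).1 hn2, (Herm.eq_zero_comm hB).1 hu, huu] at a1
      rw [a0, a1, zero_smul, zero_smul, zero_add, zero_add, smul_eq_zero] at hc
      intro i
      fin_cases i
      · exact a0
      · exact a1
      · exact hc.resolve_right hn0
    refine hn0 (hB.nondeg n fun y => ?_)
    have htop := hli.span_eq_top_of_card_eq_finrank (by rw [Fintype.card_fin, h3])
    obtain ⟨c, rfl⟩ := (Submodule.mem_span_range_iff_exists_fun F).1 (htop ▸ Submodule.mem_top : y ∈ _)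
    simp [Fin.sum_univ_three, hn1, hn2, ‹B n n = 0›]

end Rigid

variable {F L : Type*} [Field F] [Field L] [Algebra F L] [Fintype F] [Finite L]
  {σ : F →+* F} {B : L →ₛₗ[σ] L →ₗ[F] F} {τ : L →+* L}

/-- an overgroup of sporadic order contains a full root group -/
theorem exists_centre (h : Ctx B τ) {q k : ℕ} (hF : Fintype.card F = q ^ 2)
    (hiso : Nat.card {x : L // B x x = 0} = (q ^ 3 + 1) * (q ^ 2 - 1) + 1) (h2 : (2 : F) = 0)
    (hr : (q - 1).Prime) {M : Subgroup (L ≃ₗ[F] L)} (hM : norU B ≤ M) (hle : M ≤ Herm.suG B) (hk : 1 ≤ k)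
    (hdiv : 2 ^ k ∣ Nat.card M)
    (hn : ∀ n, Nat.card (circ F τ) / Nat.gcd (Nat.card (circ F τ)) 3 ∣ n → n ≡ 1 [MOD 2 ^ k] → n ≤ q ^ 3 + 1 →
      n ∣ Nat.card M → n = q ^ 3 + 1)
    (hrd : ∀ m, m * (q ^ 3 + 1) = Nat.card M → Nat.gcd (Nat.card (circ F τ)) 3 ∣ m → (q - 1) ∣ m) :
    ∃ e : L, e ≠ 0 ∧ e ∈ Unitary.centres B M := by
  classical
  haveI : FiniteDimensional F L := Module.finite_of_finrank_pos (by rw [h.dim]; norm_num)
  haveI : Finite (L ≃ₗ[F] L) := Finite.of_injective _ DFunLike.coe_injective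
  haveI : Fact (Nat.Prime 2) := ⟨Nat.prime_two⟩
  haveI : Fact (q - 1).Prime := ⟨hr⟩
  have hB := h.herm
  have h3 := h.dim
  obtain ⟨S₀, hS₀⟩ := Sylow.exists_subgroup_card_pow_prime 2 (G := M) hdiv
  set S : Subgroup (L ≃ₗ[F] L) := S₀.map M.subtype with hSd
  have hScard : Nat.card S = 2 ^ k := by
    rw [hSd, ← Nat.card_congr (S₀.equivMapOfInjective _ M.subtype_injective).toEquiv, hS₀]
  have hS : IsPGroup 2 S := IsPGroup.of_card hScard
  have hSM : S ≤ M := Subgroup.map_subtype_le S₀
  have hSiso : ∀ g ∈ S, ∀ x y, B (g x) (g y) = B x y := fun g hg => (hle (hSM hg)).1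
  obtain ⟨v, hv0, hv, hSv⟩ := exists_fixed_isotropic hB h3 h2 hS hSiso (fun e => by
    rw [e, Subgroup.card_bot] at hScard
    exact absurd hScard.symm (by simp; omega))
  -- the involution
  obtain ⟨⟨t, htS⟩, ht⟩ := exists_prime_orderOf_dvd_card' (G := S) 2 (by rw [hScard]; exact dvd_pow_self 2 (by omega))
  rw [Subgroup.orderOf_mk] at ht
  obtain ⟨c, hc0, hc, rfl⟩ := involution_tvU hB h3 h2 (hSiso t htS) (fun e => by rw [e, orderOf_one] at ht; omega)
    (by rw [← pow_two, ← ht, pow_orderOf_eq_one]) hv0 hv (hSv t htS)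
  -- the orbit of the point
  let P := Projectivization F L
  have hact : ∀ (g : M) (x : L) (hx : x ≠ 0),
      g • Projectivization.mk F x hx = Projectivization.mk F ((g : L ≃ₗ[F] L) x) ((g : L ≃ₗ[F] L).map_ne_zero_iff.2 hx) :=
    fun g x hx => rfl
  set p₀ : P := Projectivization.mk F v hv0
  let O := MulAction.orbit M p₀
  have hOiso : ∀ p ∈ O, B p.rep p.rep = 0 := by
    rintro _ ⟨g, rfl⟩
    obtain ⟨a, ha⟩ := Projectivization.exists_smul_eq_mk_rep F ((g : L ≃ₗ[F] L) v) ((g : L ≃ₗ[F] L).map_ne_zero_iff.2 hv0)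
    show B (g • p₀ : P).rep (g • p₀ : P).rep = 0
    rw [hact, ← ha, Units.smul_def, Herm.smul_self hB, (hle g.2).1, hv, mul_zero]
  have hOle : Nat.card O ≤ q ^ 3 + 1 := by
    let f : O × Fˣ → {x : {x : L // B x x = 0} // x ≠ ⟨0, by simp⟩} := fun z =>
      ⟨⟨(z.2 : F) • (z.1 : P).rep, by rw [Herm.smul_self hB, hOiso _ z.1.2, mul_zero]⟩, fun e =>
        smul_ne_zero z.2.ne_zero (z.1 : P).rep_nonzero (congrArg Subtype.val e)⟩
    have hinj : Function.Injective f := by
      rintro ⟨⟨p, hp⟩, a⟩ ⟨⟨p', hp'⟩, b⟩ e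
      have e' : (a : F) • p.rep = (b : F) • p'.rep := congrArg (fun z => ((z.1 : {x : L // B x x = 0}) : L)) e
      have : p = p' := by
        rw [← p.mk_rep, ← p'.mk_rep, Projectivization.mk_eq_mk_iff']
        exact ⟨(a : F)⁻¹ * b, by rw [mul_smul, ← e', smul_smul, inv_mul_cancel₀ a.ne_zero, one_smul]⟩
      subst this
      have : a = b := Units.ext (smul_left_injective F p.rep_nonzero e')
      subst this; rfl
    haveI := Fintype.ofFinite {x : L // B x x = 0}
    have h1 := Nat.card_le_card_of_injective f hinj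
    rw [Nat.card_prod, Nat.card_units, Nat.card_eq_fintype_card (α := F), hF,
      Nat.card_eq_fintype_card (α := {x : {x : L // B x x = 0} // x ≠ _}), Fintype.card_subtype_compl,
      Fintype.card_subtype_eq, ← Nat.card_eq_fintype_card, hiso, Nat.add_sub_cancel] at h1
    have hq3 : 2 < q := by have := hr.two_le; omega
    have hq2 : 0 < q ^ 2 - 1 := by have := Nat.pow_le_pow_left hq3.le 2; omega
    exact Nat.le_of_mul_le_mul_right h1 hq2
  -- regular orbits of the two-group
  have hSreg : Nat.card O ≡ 1 [MOD 2 ^ k] := by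
    let fS : S →* M := Subgroup.inclusion hSM
    letI : MulAction S O := MulAction.compHom O fS
    let base : O := ⟨p₀, MulAction.mem_orbit_self _⟩
    have hfix : ∀ s : S, s • base = base := fun s => Subtype.ext (by
      show fS s • p₀ = p₀
      rw [hact]
      congr 1
      exact hSv _ s.2)
    have horb : ∀ x : O, (Nat.card (MulAction.orbit S x) : ZMod (2 ^ k)) = if x = base then 1 else 0 := by
      intro x
      split_ifs with hx
      · have : MulAction.orbit S x = {base} := by
          subst hx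
          ext y
          exact ⟨fun ⟨a, e⟩ => e ▸ hfix a, fun e => ⟨1, by rw [e]; exact one_smul _ _⟩⟩
        rw [this]
        simp
      · have hst : MulAction.stabilizer S x = ⊥ := by
          rw [Subgroup.eq_bot_iff_forall]
          intro s hs
          obtain ⟨p, hp⟩ := x
          have hsp : fS s • p = p := congrArg Subtype.val (MulAction.mem_stabilizer_iff.1 hs)
          rw [← p.mk_rep, hact, Projectivization.mk_eq_mk_iff'] at hsp
          obtain ⟨l, hl⟩ := hsp
          have hgi := hSiso _ s.2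
          have hvp : B v p.rep ≠ 0 := fun e => hx (Subtype.ext (by
            obtain ⟨a, ha⟩ := SU3.orth_dep hB (by omega) hv0 hv (hOiso p hp) e
            exact p.mk_rep.symm.trans ((Projectivization.mk_eq_mk_iff' F _ _ _ _).2 ⟨a, ha⟩)))
          have hlv : (s : L ≃ₗ[F] L) p.rep = l • p.rep := hl.symm
          have hl1 : l = 1 := by
            have := hgi v p.rep
            rw [hSv _ s.2, hlv, map_smul, smul_eq_mul] at this
            exact (mul_eq_right₀ hvp).1 this
          rw [hl1, one_smul] at hlv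
          obtain ⟨i, hi⟩ := hS s
          refine Subtype.ext (eq_one_of_plane hB h3 hgi (finrank_pair hv0 fun e => hvp ?_) (fix_pair (hSv _ s.2) hlv)
            (hyperbolic_nondeg hB h3 hv0 hv hvp) (m := 2 ^ i) (congrArg Subtype.val hi) (fun ν h _ => two_pow_one h2 h))
          obtain ⟨a, ha⟩ := Submodule.mem_span_singleton.1 e
          rw [← ha, map_smul, hv, smul_zero]
        have h1 := Subgroup.card_mul_index (MulAction.stabilizer S x)
        rw [MulAction.index_stabilizer, hst, Subgroup.card_bot, one_mul, hScard] at h1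
        rw [Nat.card_coe_set_eq, h1, ZMod.natCast_self]
    haveI : Fintype (MulAction.orbitRel.Quotient S O) := Fintype.ofFinite _
    rw [← ZMod.natCast_eq_natCast_iff, Nat.card_congr (MulAction.selfEquivSigmaOrbits S O), Nat.card_sigma, Nat.cast_sum,
      Finset.sum_eq_single (Quotient.mk'' base : MulAction.orbitRel.Quotient S O)]
    · rw [horb, if_pos, Nat.cast_one]
      have h := Quotient.out_eq (Quotient.mk'' base : MulAction.orbitRel.Quotient S O)
      obtain ⟨a, ha⟩ := MulAction.orbitRel_apply.1 (Quotient.exact h)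
      exact ha.symm.trans (hfix a)
    · intro ω _ hω
      rw [horb, if_neg]
      intro e
      exact hω (by rw [← Quotient.out_eq ω, e])
    · exact fun h => absurd (Finset.mem_univ _) h
  -- regular orbits of the field elements
  let fC : circ F τ →* M := ((mulE F L).comp (circ F τ).subtype).codRestrict M fun a => hM (circ_mem h a.2)
  have hCn : Nat.card (circ F τ) / Nat.gcd (Nat.card (circ F τ)) 3 ∣ Nat.card O := by
    letI : MulAction (circ F τ) O := MulAction.compHom O fC
    have hst : ∀ x : O, MulAction.stabilizer (circ F τ) x = (powMonoidHom 3 : circ F τ →* circ F τ).ker := by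
      rintro ⟨p, hp⟩
      ext a
      rw [MulAction.mem_stabilizer_iff]
      have hsm : (a • (⟨p, hp⟩ : O) : O) = ⟨p, hp⟩ ↔ ((a : Lˣ) : L) * p.rep ∈ F ∙ p.rep := by
        rw [Subtype.ext_iff]
        show fC a • p = p ↔ _
        have e := hact (fC a) p.rep p.rep_nonzero
        rw [p.mk_rep] at e
        have e2 : ∀ (x : L) (hx : x ≠ 0), Projectivization.mk F x hx = p ↔ ∃ b : F, b • p.rep = x := fun x hx => by
          have := Projectivization.mk_eq_mk_iff' F x p.rep hx p.rep_nonzero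
          rwa [p.mk_rep] at this
        rw [e, e2]
        rw [Submodule.mem_span_singleton]
        rfl
      rw [hsm]
      constructor
      · intro ha
        obtain ⟨l, hl⟩ := Submodule.mem_span_singleton.1 ha
        have hal : ((a : Lˣ) : L) = algebraMap F L l :=
          mul_right_cancel₀ p.rep_nonzero (by rw [← hl, Algebra.smul_def])
        refine Subtype.ext (scalar_of_cube h3 a.2.1 (Algebra.mem_bot.2 ⟨l ^ 3, ?_⟩))
        rw [map_pow, Units.val_pow_eq_pow_val, hal]
      · intro ha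
        obtain ⟨l, hl⟩ := Algebra.mem_bot.1 (cube_scalar h3 (x := (a : Lˣ)) (congrArg Subtype.val (ha : a ^ 3 = 1)))
        exact Submodule.mem_span_singleton.2 ⟨l, by rw [Algebra.smul_def, hl]⟩
    haveI : Fintype (MulAction.orbitRel.Quotient (circ F τ) O) := Fintype.ofFinite _
    rw [Nat.card_congr (MulAction.selfEquivSigmaOrbits (circ F τ) O), Nat.card_sigma]
    refine Finset.dvd_sum fun ω _ => ?_
    rw [Nat.card_coe_set_eq, ← MulAction.index_stabilizer, hst, ← IsCyclic.card_powMonoidHom_ker]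
    have hidx := (powMonoidHom 3 : circ F τ →* circ F τ).ker.card_mul_index
    exact dvd_of_eq (Nat.div_eq_of_eq_mul_right Nat.card_pos hidx.symm)
  have hmul := Subgroup.card_mul_index (MulAction.stabilizer M p₀)
  rw [MulAction.index_stabilizer, ← Nat.card_coe_set_eq] at hmul
  have hO : Nat.card O = q ^ 3 + 1 := hn _ hCn hSreg hOle ⟨_, by rw [mul_comm]; exact hmul.symm⟩
  -- an element of order `q - 1` at the point
  have hker : Nat.gcd (Nat.card (circ F τ)) 3 ∣ Nat.card (MulAction.stabilizer M p₀) := by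
    rw [← IsCyclic.card_powMonoidHom_ker]
    refine Subgroup.card_dvd_of_injective (((fC.comp (powMonoidHom 3 : circ F τ →* circ F τ).ker.subtype)).codRestrict _
      fun a => ?_) fun a b e => Subtype.ext (Subtype.ext (mulE_injective
        (congrArg (fun z : MulAction.stabilizer M p₀ => ((z : M) : L ≃ₗ[F] L)) e)))
    rw [MulAction.mem_stabilizer_iff]
    obtain ⟨l, hl⟩ := Algebra.mem_bot.1 (cube_scalar h3 (x := ((a : circ F τ) : Lˣ))
      (congrArg Subtype.val (a.2 : (a : circ F τ) ^ 3 = 1)))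
    show fC a • p₀ = p₀
    rw [hact]
    refine (Projectivization.mk_eq_mk_iff' F _ _ _ _).2 ⟨l, ?_⟩
    show l • v = ((a : circ F τ) : Lˣ) * v
    rw [Algebra.smul_def, hl]
  obtain ⟨⟨⟨g, hgM⟩, hg0⟩, hgord⟩ := exists_prime_orderOf_dvd_card' (G := MulAction.stabilizer M p₀) (q - 1)
    (hrd _ (by rw [← hO]; exact hmul) hker)
  rw [Subgroup.orderOf_mk, Subgroup.orderOf_mk] at hgord
  have hgr : g ^ (q - 1) = 1 := by rw [← hgord]; exact pow_orderOf_eq_one g
  rw [MulAction.mem_stabilizer_iff, hact, Projectivization.mk_eq_mk_iff'] at hg0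
  obtain ⟨l, hgv⟩ := hg0
  have hgv' : g v = l • v := hgv.symm
  have hgi := (hle hgM).1
  have hl0 : l ≠ 0 := fun e => g.map_ne_zero_iff.2 hv0 (by rw [hgv', e, zero_smul])
  have hlpow : ∀ i : ℕ, (g ^ i) v = l ^ i • v := by
    intro i
    induction i with
    | zero => simp
    | succ i ih => rw [pow_succ', LinearEquiv.mul_apply, ih, map_smul, hgv', smul_smul, ← pow_succ]
  have hlr : l ^ (q - 1) = 1 := by
    have := hlpow (q - 1)
    rw [hgr, show (1 : L ≃ₗ[F] L) v = (1 : F) • v by rw [one_smul]; rfl] at this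
    exact (smul_left_injective F hv0 this).symm
  have hqodd : Odd (q - 1) := by
    haveI : CharP F 2 := CharTwo.of_one_ne_zero_of_two_eq_zero one_ne_zero h2
    obtain ⟨i, -, hi⟩ := FiniteField.card F 2
    have : 2 ∣ q := Nat.prime_two.dvd_of_dvd_pow (n := 2) (hF ▸ hi ▸ dvd_pow_self 2 i.ne_zero)
    rw [Nat.odd_iff]
    have := hr.two_le
    omega
  have hfixq : Nat.card (Herm.fixField σ) = q := by
    have := Herm.card_eq_fix_sq hB.toIsInvol
    rw [Nat.card_eq_fintype_card (α := F), hF] at this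
    exact (Nat.pow_left_injective two_ne_zero this).symm
  have hcirc : ∀ ν : F, ν ^ (q - 1) = 1 → ν * σ ν = 1 → ν = 1 := by
    intro ν h1 h1'
    have hν0 : ν ≠ 0 := left_ne_zero_of_mul_eq_one h1'
    have hd : orderOf (Units.mk0 ν hν0) ∣ q + 1 := by
      rw [← hfixq, ← Herm.card_ker_normHom hB.toIsInvol,
        ← Subgroup.orderOf_mk (H := (Herm.normHom σ).ker) _ (MonoidHom.mem_ker.2 (Units.ext (by rw [Herm.normHom_coe, Units.val_mk0, h1', Units.val_one])))]
      exact orderOf_dvd_natCard _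
    have hd' : orderOf (Units.mk0 ν hν0) ∣ q - 1 := orderOf_dvd_of_pow_eq_one (Units.ext (by simpa using h1))
    have hgcd : Nat.Coprime (q - 1) (q + 1) := by
      refine hr.coprime_iff_not_dvd.2 fun hdvd => ?_
      have h22 : q - 1 ∣ 2 := by
        have := Nat.dvd_sub hdvd dvd_rfl
        have := hr.two_le
        rwa [show q + 1 - (q - 1) = 2 by omega] at *
      have := Nat.le_of_dvd two_pos h22
      have := hr.two_le
      rw [Nat.odd_iff] at hqodd
      omega
    have h1u : orderOf (Units.mk0 ν hν0) = 1 := Nat.eq_one_of_dvd_coprimes hgcd hd' hd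
    exact congrArg Units.val (orderOf_eq_one_iff.1 h1u)
  set u := l * σ l with hu
  have hu1 : u ≠ 1 := by
    intro hu1
    have hl1 : l = 1 := hcirc l hlr hu1
    rw [hl1, one_smul] at hgv'
    -- a fixed isotropic partner
    obtain ⟨f₀, hf₀⟩ : ∃ f₀, B v f₀ = 1 := by
      obtain ⟨z, hz⟩ : ∃ z, B v z ≠ 0 := by by_contra! hc; exact hv0 (hB.nondeg v hc)
      exact ⟨(B v z)⁻¹ • z, by rw [map_smul, smul_eq_mul, inv_mul_cancel₀ hz]⟩
    set f₁ := ((q - 1 : ℕ) : F)⁻¹ • ∑ i ∈ Finset.range (q - 1), (g ^ i) f₀ with hf₁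
    have hr0 : ((q - 1 : ℕ) : F) ≠ 0 := by
      obtain ⟨j, hj⟩ := hqodd
      rw [hj, Nat.cast_add, Nat.cast_mul, Nat.cast_ofNat, h2, zero_mul, zero_add, Nat.cast_one]
      exact one_ne_zero
    have hgf : g f₁ = f₁ := by
      rw [hf₁, map_smul, map_sum]
      congr 1
      have e1 : ∀ i, g ((g ^ i) f₀) = (g ^ (i + 1)) f₀ := fun i => by rw [pow_succ', LinearEquiv.mul_apply]
      have e2 := Finset.sum_range_succ' (fun i => (g ^ i) f₀) (q - 1)
      rw [Finset.sum_range_succ, hgr, pow_zero] at e2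
      simp only [e1]
      exact (add_right_cancel e2).symm
    have hpow_v : ∀ i : ℕ, (g ^ i) v = v := fun i => by rw [hlpow, hl1, one_pow, one_smul]
    have hBf : B v f₁ = 1 := by
      have e1 : ∀ i ∈ Finset.range (q - 1), B v ((g ^ i) f₀) = 1 := fun i _ => by
        conv_lhs => rw [← hpow_v i]
        rw [(hle (pow_mem hgM i)).1, hf₀]
      rw [hf₁, map_smul, map_sum, Finset.sum_congr rfl e1, Finset.sum_const, Finset.card_range, nsmul_eq_mul,
        mul_one, smul_eq_mul, inv_mul_cancel₀ hr0]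
    have hnot : f₁ ∉ F ∙ v := fun e => by
      obtain ⟨a, ha⟩ := Submodule.mem_span_singleton.1 e
      rw [← ha, map_smul, hv, smul_zero] at hBf
      exact zero_ne_one hBf
    have hg1 := eq_one_of_plane hB h3 hgi (finrank_pair hv0 hnot) (fix_pair hgv' hgf)
      (hyperbolic_nondeg hB h3 hv0 hv (by rw [hBf]; exact one_ne_zero)) hgr hcirc
    rw [hg1, orderOf_one] at hgord
    exact hr.one_lt.ne hgord
  have hufix : σ u = u := by rw [hu, map_mul, hB.invol, mul_comm]
  have hu0 : u ≠ 0 := mul_ne_zero hl0 ((map_ne_zero σ).2 hl0)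
  have hur : u ^ (q - 1) = 1 := by rw [hu, mul_pow, ← map_pow, hlr, map_one, mul_one]
  refine ⟨v, hv0, hv, fun hv' d hd => ?_⟩
  rcases eq_or_ne d 0 with rfl | hd0
  · have : Herm.tvU hv' (0 : F) = 1 := LinearEquiv.ext fun x => by simp [Herm.tvU_apply]
    rw [this]; exact one_mem M
  -- every skew coefficient is reached
  haveI : Fintype (Herm.fixField σ) := Fintype.ofFinite _
  obtain ⟨i, hi⟩ : ∃ i : ℕ, d = c * u ^ i := by
    have hdc : σ (d / c) = d / c := by
      rw [map_div₀, eq_neg_of_add_eq_zero_right hd, eq_neg_of_add_eq_zero_right hc, neg_div_neg_eq]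
    let U : (Herm.fixField σ)ˣ := Units.mk0 ⟨u, hufix⟩ fun e => hu0 (congrArg Subtype.val e)
    let X : (Herm.fixField σ)ˣ := Units.mk0 ⟨d / c, hdc⟩ fun e => div_ne_zero hd0 hc0 (congrArg Subtype.val e)
    have hU : orderOf U = q - 1 := orderOf_eq_prime (Units.ext (Subtype.ext (by simpa [U] using hur)))
      (fun e => hu1 (congrArg (fun z : (Herm.fixField σ)ˣ => ((z : Herm.fixField σ) : F)) e))
    have htop : Subgroup.zpowers U = ⊤ := Subgroup.eq_top_of_card_eq _ (by
      rw [Nat.card_zpowers, hU, Nat.card_units, hfixq])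
    obtain ⟨i, hi⟩ : X ∈ Submonoid.powers U :=
      (isOfFinOrder_of_finite U).mem_powers_iff_mem_zpowers.2 (htop ▸ Subgroup.mem_top X)
    refine ⟨i, ?_⟩
    have := congrArg (fun z : (Herm.fixField σ)ˣ => ((z : Herm.fixField σ) : F)) hi
    simp [U, X] at this
    rw [this, mul_div_cancel₀ _ hc0]
  have hmem := mul_mem (mul_mem (pow_mem hgM i) (hSM htS)) (inv_mem (pow_mem hgM i))
  rw [Herm.conj_tvU hB (hle (pow_mem hgM i)).1] at hmem
  convert hmem using 1
  refine LinearEquiv.ext fun x => ?_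
  rw [Herm.tvU_apply, Herm.tvU_apply, hlpow, map_smulₛₗ, LinearMap.smul_apply, smul_eq_mul, map_pow, hi, hu,
    smul_smul, mul_pow]
  congr 2
  ring

end Cfsg.Agent.ClassicalMax.SU3.Singer
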