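import Cfsg.Agent.ClassicalMax.SU3.Singer.Arith
import Cfsg.Agent.ClassicalMax.SU3.Singer.Index
import Cfsg.Agent.ClassicalMax.SU3.Singer.Sporadic

/-!
Overgroups of the normaliser of an adjoint-closed cubic field in the special unitary group.
-/

set_option autoImplicit false
set_option linter.unusedSectionVars false
set_option linter.style.haveILetI false

namespace Cfsg.Agent.ClassicalMax.SU3.Singer

open Module Cfsg.Agent.Classical Cfsg.Agent.ClassicalMax.SL3.Singer

variable {F L : Type*} [Field F] [Field L] [Algebra F L] [Fintype F] [Finite L]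
  {σ : F →+* F} {B : L →ₛₗ[σ] L →ₗ[F] F} {τ : L →+* L}

theorem irreducible (h : Ctx B τ) {q : ℕ} (hF : Fintype.card F = q ^ 2) (hq : 3 ≤ q) {M : Subgroup (L ≃ₗ[F] L)}
    (hM : norU B ≤ M) : ∀ U : Submodule F L, (∀ g ∈ M, ∀ u ∈ U, g u ∈ U) → U = ⊥ ∨ U = ⊤ := by
  intro U hU
  by_contra hne
  rw [not_or] at hne
  have hle : Nat.card (circ F τ) ≤ Nat.card (powMonoidHom 3 : circ F τ →* circ F τ).ker := by
    refine Nat.card_le_card_of_injective (fun a => ⟨a, ?_⟩) fun a b h => congrArg Subtype.val h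
    refine Subtype.ext (scalar_of_cube h.dim a.2.1 ?_)
    rw [Units.val_pow_eq_pow_val]
    refine pow_mem (scalar_of_stab h.dim hne.1 hne.2 fun u hu => ?_) 3
    exact hU _ (hM (circ_mem h a.2)) u hu
  rw [IsCyclic.card_powMonoidHom_ker] at hle
  have := card_circ h hF
  have := Nat.gcd_le_right (n := 3) (Nat.card (circ F τ)) (by norm_num)
  have : 3 * q ≤ q ^ 2 := by rw [pow_two]; exact Nat.mul_le_mul hq le_rfl
  omega

theorem gcd_circ {q c : ℕ} (h : c + q = q ^ 2 + 1) :
    Nat.gcd c 3 = 1 ∧ q % 3 ≠ 2 ∨ Nat.gcd c 3 = 3 ∧ q % 3 = 2 := by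
  have hc : (c + q) % 3 = ((q % 3) ^ 2 + 1) % 3 := by rw [h]; simp [Nat.add_mod, Nat.pow_mod]
  have hg : Nat.gcd c 3 = Nat.gcd (c % 3) 3 := by rw [Nat.gcd_comm, Nat.gcd_rec]
  have hq3 : q % 3 < 3 := Nat.mod_lt _ (by norm_num)
  rw [hg]
  interval_cases hr : q % 3 <;> norm_num at hc
  · rw [show c % 3 = 1 by omega]; norm_num
  · rw [show c % 3 = 1 by omega]; norm_num
  · rw [show c % 3 = 0 by omega]; norm_num

/-- the overgroups of the normaliser of the field -/
theorem over_norU (h : Ctx B τ) {q : ℕ} (hF : Fintype.card F = q ^ 2) (hq : 4 ≤ q) (hq5 : q ≠ 5)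
    (hcard : Nat.card (Herm.suG B) = q ^ 3 * (q ^ 3 + 1) * (q ^ 2 - 1))
    (hiso : Nat.card {x : L // B x x = 0} = (q ^ 3 + 1) * (q ^ 2 - 1) + 1)
    {M : Subgroup (L ≃ₗ[F] L)} (hM : norU B ≤ M) (hle : M ≤ Herm.suG B) :
    M = norU B ∨ ∀ v, B v v = 0 → v ∈ Unitary.centres B M := by
  haveI : FiniteDimensional F L := Module.finite_of_finrank_pos (by rw [h.dim]; norm_num)
  haveI : Finite (L ≃ₗ[F] L) := Finite.of_injective _ DFunLike.coe_injective
  have hdvd := dvd_index_of h.dim (A := circ F τ) inf_le_left (H := norU B) inf_le_left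
    (fun a ha => circ_mem h ha) hM (fun g hg hn => ⟨hn, hle hg⟩)
  have hc := card_circ h hF
  set c := Nat.card (circ F τ) with hcd
  set D := ((norU B).subgroupOf M).index with hD
  set E := (M.subgroupOf (Herm.suG B)).index with hE
  have hcM : Nat.card M = 3 * c * D := by
    rw [← Subgroup.card_mul_index ((norU B).subgroupOf M), Nat.card_congr (Subgroup.subgroupOfEquivOfLe hM).toEquiv,
      card_norU h]
  have hcS : q ^ 3 * (q ^ 3 + 1) * (q ^ 2 - 1) = 3 * c * D * E := by
    rw [← hcard, ← Subgroup.card_mul_index (M.subgroupOf (Herm.suG B)),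
      Nat.card_congr (Subgroup.subgroupOfEquivOfLe hle).toEquiv, hcM]
  have hc0 : 0 < c := Nat.card_pos
  have hfact : q ^ 3 + 1 = (q + 1) * c ∧ q ^ 2 - 1 = (q + 1) * (q - 1) := by
    refine ⟨?_, by simpa using Nat.sq_sub_sq q 1⟩
    have : (q + 1) * (c + q) = (q + 1) * (q ^ 2 + 1) := by rw [hc]
    have e : (q + 1) * (q ^ 2 + 1) = q ^ 3 + 1 + (q + 1) * q := by ring
    rw [mul_add] at this
    omega
  have hN : 3 * (D * E) = q ^ 3 * (q + 1) ^ 2 * (q - 1) := by
    rw [hfact.1, hfact.2] at hcS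
    exact Nat.eq_of_mul_eq_mul_left hc0
      (by rw [show c * (q ^ 3 * (q + 1) ^ 2 * (q - 1)) = q ^ 3 * ((q + 1) * c) * ((q + 1) * (q - 1)) by ring, hcS]; ring)
  have hg : Nat.gcd c 3 * (c / Nat.gcd c 3) = c := Nat.mul_div_cancel' (Nat.gcd_dvd_left _ _)
  obtain ⟨p, hp⟩ := CharP.exists F
  obtain ⟨n, hp', hpn⟩ := FiniteField.card F p
  have hqdvd : q ∣ p ^ (n : ℕ) := by rw [← hpn, hF]; exact dvd_pow_self q two_ne_zero
  have hpp : IsPrimePow q := by
    obtain ⟨i, -, hi⟩ := (Nat.dvd_prime_pow hp').1 hqdvd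
    rw [hi]
    exact hp'.isPrimePow.pow fun e => by rw [e, pow_zero] at hi; omega
  have hsum : c / Nat.gcd c 3 * Nat.gcd c 3 + q = q ^ 2 + 1 := by rw [mul_comm, hg, hc]
  have h2 : q = 4 ∨ q = 8 → (2 : F) = 0 := fun hq48 => by
    have h2p : 2 ∣ p := Nat.prime_two.dvd_of_dvd_pow (n := (n : ℕ)) <| dvd_trans (by omega : 2 ∣ q) hqdvd
    rw [Nat.prime_dvd_prime_iff_eq Nat.prime_two hp'] at h2p
    subst h2p
    exact_mod_cast CharP.cast_eq_zero F 2
  rcases arith hpp hq hq5 (gcd_circ hc) (by rw [mul_comm]; exact hsum) hN hdvd with hh | hh | ⟨e, hh⟩ | ⟨e, hh⟩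
  · exact Or.inl (le_antisymm (Subgroup.subgroupOf_eq_top.1 (Subgroup.index_eq_one.1 hh)) hM)
  · exact Or.inr fun v hv => ⟨hv, fun hv' d hd =>
      Subgroup.subgroupOf_eq_top.1 (Subgroup.index_eq_one.1 hh) (Herm.tvU_mem h.herm hv' hd)⟩
  · subst e
    refine Or.inr ?_
    have hc13 : c = 13 := by omega
    rw [hc13, hh] at hcM
    obtain ⟨e, he0, he⟩ := exists_centre h (k := 3) hF hiso (h2 (Or.inl rfl)) (by norm_num) hM hle (by norm_num)
      (by rw [hcM]; norm_num)
      (fun n h1 h2 h3 _ => by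
        rw [← hcd, hc13] at h1
        norm_num [Nat.ModEq] at h1 h2 h3
        omega)
      (fun m h1 _ => by rw [hcM] at h1; norm_num at h1 ⊢; omega)
    exact SU3.centres_of_irreducible h.herm h.dim (fun g hg => (hle hg).1) (irreducible h hF (by norm_num) hM) he he0
  · subst e
    refine Or.inr ?_
    have hc57 : c = 57 := by omega
    rcases hh with hh | hh <;> rw [hc57, hh] at hcM
    · obtain ⟨e, he0, he⟩ := exists_centre h (k := 5) hF hiso (h2 (Or.inr rfl)) (by norm_num) hM hle (by norm_num)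
        (by rw [hcM]; norm_num)
        (fun n h1 h2 h3 _ => by
          rw [← hcd, hc57] at h1
          norm_num [Nat.ModEq] at h1 h2 h3
          omega)
        (fun m h1 h2 => by rw [← hcd, hc57] at h2; rw [hcM] at h1; norm_num at h1 h2; omega)
      exact SU3.centres_of_irreducible h.herm h.dim (fun g hg => (hle hg).1) (irreducible h hF (by norm_num) hM) he he0
    · obtain ⟨e, he0, he⟩ := exists_centre h (k := 4) hF hiso (h2 (Or.inr rfl)) (by norm_num) hM hle (by norm_num)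
        (by rw [hcM]; norm_num)
        (fun n h1 h2 h3 h4 => by
          rw [← hcd, hc57] at h1
          rw [hcM] at h4
          norm_num [Nat.ModEq] at h1 h2 h3 h4
          obtain ⟨t, rfl⟩ := h1
          have ht : t = 11 ∨ t = 27 := by omega
          rcases ht with rfl | rfl <;> simp_all)
        (fun m h1 _ => by rw [hcM] at h1; norm_num at h1 ⊢; omega)
      exact SU3.centres_of_irreducible h.herm h.dim (fun g hg => (hle hg).1) (irreducible h hF (by norm_num) hM) he he0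

end Cfsg.Agent.ClassicalMax.SU3.Singer
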